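import Mathlib
import Groth.Agent.S11042
import Groth.Agent.FF.Degree
import Groth.Agent.FF.RR

/-!
# Rational points on absolutely irreducible plane curves over finite fields
-/

set_option autoImplicit false
set_option maxHeartbeats 800000
set_option linter.style.haveILetI false

universe u

namespace Groth.Agent.AbscLB

open Polynomial FunFld Groth.Agent.FF
open scoped IntermediateField

variable {k : Type u} [Field k] {K : Type u} [Field K] [Algebra k K] {x y : K} {F : k[X][X]}

theorem v_aeval_le (P : Place k K) (p : k[X]) {d : ℕ} (hp : p.natDegree ≤ d) :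
    P.1 (aeval x p) ≤ max 1 (P.1 x) ^ d := by
  rw [aeval_eq_sum_range' (Nat.lt_succ_iff.2 hp)]
  refine P.1.map_sum_le fun i hi => ?_
  refine (v_smul_le P _ _).trans ?_
  rw [map_pow]
  exact (pow_le_pow_left' (le_max_right _ _) i).trans
    (pow_le_pow_right' (le_max_left _ _) (Nat.lt_succ_iff.1 (Finset.mem_range.1 hi)))

theorem v_root_le (P : Place k K) (hF : F.Monic) {d : ℕ} (hd : ∀ a, (F.coeff a).natDegree ≤ d)
    (hy : (F.map (aeval x).toRingHom).IsRoot y) : P.1 y ≤ max 1 (P.1 x) ^ d := by
  by_contra hlt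
  push Not at hlt
  have h1 : (1 : WithZero (Multiplicative ℤ)) ≤ max 1 (P.1 x) ^ d := one_le_pow_of_one_le' (le_max_left _ _) d
  have hpos : (1 : WithZero (Multiplicative ℤ)) < P.1 y := h1.trans_lt hlt
  set n := F.natDegree
  have hy' : y ^ n = -∑ i ∈ Finset.range n, aeval x (F.coeff i) * y ^ i := by
    rw [IsRoot, eval_eq_sum_range, hF.natDegree_map, Finset.sum_range_succ, coeff_map, hF.coeff_natDegree,
      map_one, one_mul] at hy
    simp only [coeff_map] at hy
    exact eq_neg_of_add_eq_zero_right hy
  have hlt' : P.1 (∑ i ∈ Finset.range n, aeval x (F.coeff i) * y ^ i) < P.1 y ^ n := by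
    refine P.1.map_sum_lt (pow_ne_zero _ fun h0 => by rw [h0] at hpos; exact (not_lt.2 zero_le_one) hpos) fun i hi => ?_
    rw [map_mul, map_pow]
    have hi' : i + 1 ≤ n := Finset.mem_range.1 hi
    calc P.1 (aeval x (F.coeff i)) * P.1 y ^ i ≤ max 1 (P.1 x) ^ d * P.1 y ^ i :=
          mul_le_mul' (v_aeval_le P _ (hd i)) le_rfl
      _ < P.1 y * P.1 y ^ i := by
          refine mul_lt_mul_of_pos_right hlt (pow_pos ?_ _)
          exact lt_trans zero_lt_one hpos
      _ = P.1 y ^ (i + 1) := (pow_succ' _ _).symm
      _ ≤ P.1 y ^ n := pow_le_pow_right' hpos.le hi'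
  rw [← map_pow, hy', Valuation.map_neg] at hlt'
  exact lt_irrefl _ hlt'

/-- The genus of a plane model is bounded by the size of its equation. -/
theorem genus_le (hK : IsFunctionField k K) (hx : Transcendental k x) (hF : F.Monic) {d : ℕ}
    (hd : ∀ a, (F.coeff a).natDegree ≤ d) (hy : (F.map (aeval x).toRingHom).IsRoot y)
    (hn : Module.finrank k⟮x⟯ K = F.natDegree)
    (hli : LinearIndependent k⟮x⟯ fun i : Fin F.natDegree => y ^ (i : ℕ)) :
    genus k K ≤ F.natDegree ^ 2 * d + 1 := by
  classical
  set n := F.natDegree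
  have hx0 : x ≠ 0 := fun h => hx (h ▸ isAlgebraic_zero)
  set B := zeros (k := k) x⁻¹
  have hB : 0 ≤ B := zeros_nonneg _
  have hdeg : B.deg = n := by
    rw [deg_zeros hK (fun h => hx (by simpa using h.inv)), adjoin_inv, hn]
  have hxL : ∀ P : Place k K, max 1 (P.1 x) ≤ WithZero.exp (B P) := fun P => by
    have h := (mem_L_zeros_inv (k := k) hK hx0 1) P
    simp only [pow_one, Nat.cast_one, one_smul] at h
    refine max_le ?_ h
    rw [← WithZero.exp_zero, WithZero.exp_le_exp]
    exact hB P
  have hyL : ∀ i : Fin n, y ^ (i : ℕ) ∈ L (((n * d : ℕ) : ℤ) • B) := fun i P => by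
    rw [map_pow, Finsupp.smul_apply, smul_eq_mul, ← nsmul_eq_mul, WithZero.exp_nsmul]
    refine (pow_le_pow_left' ((v_root_le P hF hd hy).trans (pow_le_pow_left' (hxL P) d)) _).trans ?_
    rw [← pow_mul, mul_comm]
    refine pow_le_pow_right' ?_ (Nat.mul_le_mul_right _ i.2.le)
    rw [← WithZero.exp_zero, WithZero.exp_le_exp]
    exact hB P
  set m := 2 * genus k K
  have : FiniteDimensional k (L (((m + n * d : ℕ) : ℤ) • B)) := finite_L hK _
  let g : Fin (m + 1) → k⟮x⟯ := fun i => (IntermediateField.AdjoinSimple.gen k x) ^ (i : ℕ)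
  have hg : LinearIndependent k g := by
    refine LinearIndependent.of_comp (IsScalarTower.toAlgHom k k⟮x⟯ K).toLinearMap ?_
    have := (Polynomial.basisMonomials k).linearIndependent.map'
      (Polynomial.aeval (R := k) x).toLinearMap (LinearMap.ker_eq_bot.2 (transcendental_iff_injective.1 hx))
    have h2 := this.comp (fun i : Fin (m + 1) => (i : ℕ)) Fin.val_injective
    have e : ((Polynomial.aeval x).toLinearMap ∘ Polynomial.basisMonomials k) ∘ (fun i : Fin (m + 1) => (i : ℕ)) =
        (IsScalarTower.toAlgHom k k⟮x⟯ K).toLinearMap ∘ g := by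
      funext i
      simp [g, Polynomial.coe_basisMonomials, Polynomial.aeval_monomial]
    exact e ▸ h2
  have hmem : ∀ p : Fin (m + 1) × Fin n, g p.1 • y ^ (p.2 : ℕ) ∈ L (((m + n * d : ℕ) : ℤ) • B) := by
    rintro ⟨i, j⟩
    rw [IntermediateField.smul_def, Nat.cast_add, add_smul]
    refine mul_mem_L (L_mono ?_ (by simpa [g] using mem_L_zeros_inv (k := k) hK hx0 (i : ℕ))) (hyL j)
    exact smul_le_smul_of_nonneg_right (by have := i.2; omega) hB
  have h1 := (LinearIndependent.of_comp (Submodule.subtype _) (v := fun p => (⟨_, hmem p⟩ : L _))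
    (linearIndependent_smul hg hli)).fintype_card_le_finrank
  simp only [Fintype.card_prod, Fintype.card_fin] at h1
  change (m + 1) * n ≤ ell _ at h1
  have hn0 : 1 ≤ n := by
    have := finiteDimensional_adjoin hK hx
    rw [← hn]; exact Module.finrank_pos
  have h2 := ell_of_deg_large hK (D := ((m + n * d : ℕ) : ℤ) • B) (by
    rw [deg_smul, hdeg]
    have : (m : ℤ) * 1 ≤ ((m + n * d : ℕ) : ℤ) * n :=
      mul_le_mul (by exact_mod_cast Nat.le_add_right m (n * d)) (by exact_mod_cast hn0) zero_le_one (by positivity)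
    simp only [m] at this ⊢; push_cast at this ⊢; omega)
  rw [deg_smul, hdeg] at h2
  have h3 : (((m + 1) * n : ℕ) : ℤ) ≤ (ell (((m + n * d : ℕ) : ℤ) • B) : ℤ) := by exact_mod_cast h1
  rw [h2] at h3
  push_cast at h3
  have : (genus k K : ℤ) ≤ (n : ℤ) ^ 2 * d + 1 := by nlinarith
  exact_mod_cast this

/-- The function field of an absolutely irreducible plane curve. -/
theorem exists_functionField {n : ℕ} (hF : F.Monic) (hn : F.natDegree = n) (hn1 : 1 ≤ n)
    (hirr : Irreducible (F.map (mapRingHom (algebraMap k (AlgebraicClosure k))))) :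
    ∃ (K : Type u) (_ : Field K) (_ : Algebra k K) (x y : K), IsFunctionField k K ∧ Transcendental k x ∧
      (F.map (aeval x).toRingHom).IsRoot y ∧ Module.finrank k⟮x⟯ K = F.natDegree ∧
      LinearIndependent k⟮x⟯ fun i : Fin F.natDegree => y ^ (i : ℕ) := by
  have hk0 : Irreducible F :=
    hF.irreducible_of_irreducible_map (mapRingHom (algebraMap k (AlgebraicClosure k))) _ hirr
  let f : (RatFunc k)[X] := F.map (algebraMap k[X] (RatFunc k))
  have hfm : f.Monic := hF.map _
  have hfd : f.natDegree = F.natDegree := hF.natDegree_map _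
  have : Fact (Irreducible f) := ⟨(hF.irreducible_iff_irreducible_map_fraction_map).1 hk0⟩
  let K := AdjoinRoot f
  let x : K := algebraMap (RatFunc k) K RatFunc.X
  let y : K := AdjoinRoot.root f
  have hcomp : (aeval x).toRingHom = (algebraMap (RatFunc k) K).comp (algebraMap k[X] (RatFunc k)) := by
    refine Polynomial.ringHom_ext (fun a => ?_) ?_
    · simp [IsScalarTower.algebraMap_apply k (RatFunc k) K, RatFunc.algebraMap_C, ← RatFunc.algebraMap_eq_C]
    · simp [x]
  have hyroot : (F.map (aeval x).toRingHom).IsRoot y := by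
    rw [hcomp, ← Polynomial.map_map]
    exact AdjoinRoot.isRoot_root f
  have hxT : Transcendental k x := by
    rw [transcendental_iff_injective]
    have : (aeval x : k[X] →ₐ[k] K).toRingHom = _ := hcomp
    intro a b hab
    exact IsFractionRing.injective k[X] (RatFunc k) ((algebraMap (RatFunc k) K).injective
      ((RingHom.congr_fun hcomp a).symm.trans (hab.trans (RingHom.congr_fun hcomp b))))
  let e : RatFunc k ≃ₐ[k] k⟮x⟯ := RatFunc.algEquivOfTranscendental x hxT
  have hext : (algebraMap k⟮x⟯ K).comp e.toRingEquiv.toRingHom = (algebraMap (RatFunc k) K) := by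
    refine IsLocalization.ringHom_ext (nonZeroDivisors k[X]) ?_
    refine RingHom.ext fun g => ?_
    rw [← hcomp]
    show algebraMap k⟮x⟯ K (e (algebraMap k[X] (RatFunc k) g)) = aeval x g
    rw [RatFunc.algEquivOfTranscendental_algebraMap, ← aeval_algebraMap_apply]
    rfl
  let pb := AdjoinRoot.powerBasis hfm.ne_zero
  have hrank : Module.finrank (RatFunc k) K = F.natDegree := by
    rw [pb.finrank, AdjoinRoot.powerBasis_dim, hfd]
  have hfin : Module.finrank k⟮x⟯ K = F.natDegree := by
    rw [← hrank]
    exact (Algebra.finrank_eq_of_equiv_equiv e.toRingEquiv (RingEquiv.refl K) (by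
      exact hext)).symm
  have hli : LinearIndependent k⟮x⟯ fun i : Fin F.natDegree => y ^ (i : ℕ) := by
    rw [Fintype.linearIndependent_iff]
    intro g hg i
    have h0 := Fintype.linearIndependent_iff.1 pb.basis.linearIndependent
      (fun j => e.symm (g (Fin.cast (by rw [AdjoinRoot.powerBasis_dim, hfd]) j))) ?_
      (Fin.cast (by rw [AdjoinRoot.powerBasis_dim, hfd]) i)
    · simpa using h0
    · rw [← hg]
      refine Fintype.sum_equiv (finCongr (by rw [AdjoinRoot.powerBasis_dim, hfd])) _ _ fun j => ?_
      rw [PowerBasis.coe_basis, AdjoinRoot.powerBasis_gen, Algebra.smul_def, IntermediateField.smul_def, ← hext]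
      simp [y]
  refine ⟨K, inferInstance, inferInstance, x, y, ⟨⟨x, hxT, ?_⟩, fun c hc => ?_⟩, hxT, hyroot, hfin, hli⟩
  · exact FiniteDimensional.of_finrank_pos (by rw [hfin, hn]; exact hn1)
  · -- constants
    let kb := AlgebraicClosure k
    let W := FractionRing kb[X]
    let rho : RatFunc k →+* W := IsFractionRing.lift (A := k[X])
      (g := (algebraMap kb[X] W).comp (mapRingHom (algebraMap k kb)))
      ((IsFractionRing.injective kb[X] W).comp (map_injective _ (algebraMap k kb).injective))
    letI : Algebra (RatFunc k) W := rho.toAlgebra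
    have hrho : ∀ g : k[X], rho (algebraMap k[X] (RatFunc k) g) = algebraMap kb[X] W (g.map (algebraMap k kb)) :=
      fun g => IsFractionRing.lift_algebraMap _ g
    have hcint : IsIntegral k c := hc.isIntegral
    have hcR : IsIntegral (RatFunc k) c := hcint.tower_top
    set μ := minpoly k c
    have hdvd : minpoly (RatFunc k) c ∣ μ.map (algebraMap k (RatFunc k)) :=
      minpoly.dvd_map_of_isScalarTower k (RatFunc k) c
    have hsplit : ((μ.map (algebraMap k (RatFunc k))).map (algebraMap (RatFunc k) W)).Splits := by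
      rw [Polynomial.map_map]
      have : (algebraMap (RatFunc k) W).comp (algebraMap k (RatFunc k)) =
          ((algebraMap kb[X] W).comp Polynomial.C).comp (algebraMap k kb) := by
        refine RingHom.ext fun a => ?_
        show rho (algebraMap k (RatFunc k) a) = _
        rw [IsScalarTower.algebraMap_apply k k[X] (RatFunc k), hrho]
        simp
      rw [this, ← Polynomial.map_map]
      exact (IsAlgClosed.splits _).map _
    obtain ⟨γ, hγ⟩ : ∃ γ : W, aeval γ (minpoly (RatFunc k) c) = 0 := by
      have h2 : ((minpoly (RatFunc k) c).map (algebraMap (RatFunc k) W)).Splits :=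
        hsplit.of_dvd (Polynomial.map_ne_zero (Polynomial.map_ne_zero (minpoly.ne_zero hcint)))
          (Polynomial.map_dvd _ hdvd)
      obtain ⟨γ, hγ⟩ := h2.exists_eval_eq_zero (by
        rw [degree_map]; exact (minpoly.degree_pos hcR).ne')
      exact ⟨γ, by rwa [aeval_def, eval₂_eq_eval_map]⟩
    let L1 : IntermediateField (RatFunc k) K := (RatFunc k)⟮c⟯
    have : FiniteDimensional (RatFunc k) K := pb.finite
    let σ : L1 →ₐ[RatFunc k] W := (IntermediateField.adjoin.powerBasis hcR).lift γ
      (by rw [IntermediateField.adjoin.powerBasis_gen, IntermediateField.minpoly_gen]; exact hγ)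
    let G := minpoly L1 y
    have hyint : IsIntegral L1 y := (Algebra.IsIntegral.isIntegral (R := RatFunc k) y).tower_top
    have hGdvd : G.map σ.toRingHom ∣ f.map (algebraMap (RatFunc k) W) := by
      have h1 : G ∣ f.map (algebraMap (RatFunc k) L1) := by
        refine minpoly.dvd _ _ ?_
        rw [aeval_map_algebraMap, aeval_def, eval₂_eq_eval_map]
        exact AdjoinRoot.isRoot_root f
      have h2 := Polynomial.map_dvd σ.toRingHom h1
      rw [Polynomial.map_map] at h2
      have h3 : σ.toRingHom.comp (algebraMap (RatFunc k) L1) = algebraMap (RatFunc k) W :=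
        RingHom.ext fun a => σ.commutes a
      rwa [h3] at h2
    have hirrW : Irreducible (f.map (algebraMap (RatFunc k) W)) := by
      have h1 := ((hF.map (mapRingHom (algebraMap k kb))).irreducible_iff_irreducible_map_fraction_map (K := W)).1 hirr
      rw [Polynomial.map_map] at h1 ⊢
      have he : (algebraMap (RatFunc k) W).comp (algebraMap k[X] (RatFunc k)) =
          (algebraMap kb[X] W).comp (mapRingHom (algebraMap k kb)) := RingHom.ext fun g => hrho g
      rw [he]
      exact h1
    have hdegeq : (G.map σ.toRingHom).natDegree = F.natDegree := by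
      obtain ⟨q, hq⟩ := hGdvd
      have hGm : (G.map σ.toRingHom).Monic := (minpoly.monic hyint).map _
      have hne : ¬ IsUnit (G.map σ.toRingHom) := fun hu => by
        have := natDegree_eq_zero_of_isUnit hu
        rw [(minpoly.monic hyint).natDegree_map] at this
        exact (minpoly.natDegree_pos hyint).ne' this
      have hq0 : q.natDegree = 0 := natDegree_eq_zero_of_isUnit ((hirrW.isUnit_or_isUnit hq).resolve_left hne)
      have := congrArg natDegree hq
      rw [natDegree_mul hGm.ne_zero (fun h0 => by rw [h0, mul_zero] at hq; exact hirrW.ne_zero hq), hq0, add_zero,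
        natDegree_map, hfd] at this
      exact this.symm
    rw [(minpoly.monic hyint).natDegree_map] at hdegeq
    have hle : F.natDegree ≤ Module.finrank L1 K := hdegeq ▸ minpoly.natDegree_le y
    have hmul := Module.finrank_mul_finrank (RatFunc k) L1 K
    rw [hrank] at hmul
    have hL1 : Module.finrank (RatFunc k) L1 = 1 := by
      have hpos : 0 < Module.finrank (RatFunc k) L1 := Module.finrank_pos
      have : Module.finrank (RatFunc k) L1 * F.natDegree ≤ 1 * F.natDegree := by
        rw [one_mul]
        exact (Nat.mul_le_mul_left _ hle).trans hmul.le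
      have := Nat.le_of_mul_le_mul_right this (hn ▸ hn1)
      omega
    have hmem : c ∈ L1 := IntermediateField.mem_adjoin_simple_self (RatFunc k) c
    rw [IntermediateField.finrank_eq_one_iff.1 hL1] at hmem
    obtain ⟨r, hr⟩ := IntermediateField.mem_bot.1 hmem
    have hralg : IsAlgebraic k r :=
      (isAlgebraic_algebraMap_iff (algebraMap (RatFunc k) K).injective).1 (hr ▸ hc)
    obtain ⟨p, hp⟩ := IsIntegrallyClosed.isIntegral_iff.1 (hralg.isIntegral.tower_top (A := k[X]))
    have hp0 : p.natDegree = 0 := by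
      by_contra h0
      have hT : Transcendental k p := Polynomial.transcendental p h0
        (mem_nonZeroDivisors_of_ne_zero (leadingCoeff_ne_zero.2 fun hz => h0 (by rw [hz, natDegree_zero])))
      exact hT ((isAlgebraic_algebraMap_iff (IsFractionRing.injective k[X] (RatFunc k))).1 (hp ▸ hralg))
    obtain ⟨a, ha⟩ := natDegree_eq_zero.1 hp0
    exact ⟨a, by rw [← hr, ← hp, ← ha, IsScalarTower.algebraMap_apply k (RatFunc k) K,
      IsScalarTower.algebraMap_apply k k[X] (RatFunc k)]; rfl⟩

/-- An absolutely irreducible plane curve over a finite field has many abscissae of rational points. -/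
theorem exists_rational_abscissae {k : Type u} [Field k] [Finite k] {F : k[X][X]} (hF : F.Monic) {n d : ℕ}
    (hn : F.natDegree = n) (hn1 : 1 ≤ n) (hd : ∀ a, (F.coeff a).natDegree ≤ d)
    (hirr : Irreducible (F.map (mapRingHom (algebraMap k (AlgebraicClosure k))))) :
    ∃ S : Finset k, (∀ a ∈ S, ∃ c : k, (F.map (evalRingHom a)).IsRoot c) ∧
      (Nat.card k : ℝ) + 1 - 2 * ((n ^ 2 * d + 1 : ℕ) : ℝ) * Real.sqrt (Nat.card k) - n ≤ n * S.card := by
  classical
  let _ := Fintype.ofFinite k
  obtain ⟨K, _, _, x, y, hK, hxT, hy, hdeg, hli⟩ := exists_functionField hF hn hn1 hirr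
  have hg := genus_le hK hxT hF hd hy hdeg hli
  rw [hn] at hg hdeg
  have hW := Groth.Agent.S11042.result k K hK
  have hfin : {P : Place k K | P.deg = 1}.Finite :=
    (finite_places_deg_le hK 1).subset fun P (hP : P.deg = 1) => hP.le
  let T := hfin.toFinset
  have hT : ∀ P, P ∈ T ↔ P.deg = 1 := fun P => hfin.mem_toFinset
  have hcard : (Nat.card {P : Place k K // P.deg = 1} : ℝ) = T.card := by
    rw [← Set.ncard_eq_toFinset_card _ hfin, ← Nat.card_coe_set_eq]; rfl
  rw [hcard] at hW
  have hx0 : x ≠ 0 := fun h => hxT (h ▸ isAlgebraic_zero)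
  -- places with a zero of a translate of the coordinate
  have hzero : ∀ (z : K), Transcendental k z → k⟮z⟯ = k⟮x⟯ →
      (T.filter fun P => 0 < P.ord z).card ≤ n := by
    intro z hz hzx
    have h := sum_ord_le hK hz (T.filter fun P => 0 < P.ord z) fun P hP => (Finset.mem_filter.1 hP).2.le
    rw [hzx, hdeg] at h
    have h1 : ((T.filter fun P => 0 < P.ord z).card : ℤ) ≤
        ∑ P ∈ T.filter (fun P => 0 < P.ord z), P.ord z * P.deg := by
      rw [Finset.card_eq_sum_ones, Nat.cast_sum]
      refine Finset.sum_le_sum fun P hP => ?_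
      obtain ⟨hP1, hP2⟩ := Finset.mem_filter.1 hP
      rw [(hT P).1 hP1]
      push_cast
      omega
    exact_mod_cast h1.trans h
  have hbad : (T.filter fun P => 0 < P.ord x⁻¹).card ≤ n :=
    hzero _ (fun h => hxT (by simpa using h.inv)) (adjoin_inv x)
  let good := T.filter fun P => ¬ 0 < P.ord x⁻¹
  have hres : ∀ P ∈ good, ∃ a : k, (∃ c : k, (F.map (evalRingHom a)).IsRoot c) ∧ P.1 (x - algebraMap k K a) < 1 := by
    intro P hP
    obtain ⟨hP1, hP2⟩ := Finset.mem_filter.1 hP
    rw [ord_inv] at hP2
    have hvx : P.1 x ≤ 1 := (v_le_one_iff P hx0).2 (by omega)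
    have hvy : P.1 y ≤ 1 := by
      have h := v_root_le P hF hd hy
      rwa [max_eq_left hvx, one_pow] at h
    let _ : Algebra k (IsLocalRing.ResidueField P.O) := Place.algRes P
    have hfr : Module.finrank k (IsLocalRing.ResidueField P.O) = 1 := (hT P).1 hP1
    have hsurj : ∀ z : P.O, ∃ a : k, algebraMap k (IsLocalRing.ResidueField P.O) a = IsLocalRing.residue P.O z := by
      intro z
      obtain ⟨a, ha⟩ := (finrank_eq_one_iff_of_nonzero' (1 : IsLocalRing.ResidueField P.O) one_ne_zero).1 hfr
        (IsLocalRing.residue P.O z)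
      exact ⟨a, (Algebra.algebraMap_eq_smul_one a).trans ha⟩
    have hlt : ∀ (z : P.O) (a : k), algebraMap k (IsLocalRing.ResidueField P.O) a = IsLocalRing.residue P.O z →
        P.1 (z.1 - algebraMap k K a) < 1 := by
      intro z a h
      have h0 : IsLocalRing.residue P.O (z - algebraMap k P.O a) = 0 := by
        rw [map_sub, ← h]; exact sub_self _
      rw [IsLocalRing.residue_eq_zero_iff] at h0
      have h1 := (Valuation.mem_maximalIdeal_iff (v := P.1)).1 h0
      exact h1
    obtain ⟨a, ha⟩ := hsurj ⟨x, hvx⟩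
    obtain ⟨c, hc⟩ := hsurj ⟨y, hvy⟩
    refine ⟨a, ⟨c, ?_⟩, hlt ⟨x, hvx⟩ a ha⟩
    let iota : P.O →ₐ[k] K := incHom P
    have h1 : (F.map (aeval (⟨x, hvx⟩ : P.O)).toRingHom).IsRoot ⟨y, hvy⟩ := by
      refine IsRoot.of_map (f := iota.toRingHom) ?_ Subtype.val_injective
      rw [Polynomial.map_map]
      have he : iota.toRingHom.comp (aeval (⟨x, hvx⟩ : P.O)).toRingHom = (aeval x : k[X] →ₐ[k] K).toRingHom := by
        refine Polynomial.ringHom_ext (fun a => ?_) ?_
        · simp
        · simp [iota]
      rw [he]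
      exact hy
    let rho : P.O →ₐ[k] IsLocalRing.ResidueField P.O := resHom P
    have h2 := h1.map (f := rho.toRingHom)
    rw [Polynomial.map_map] at h2
    have he : rho.toRingHom.comp (aeval (⟨x, hvx⟩ : P.O)).toRingHom =
        (algebraMap k (IsLocalRing.ResidueField P.O)).comp (evalRingHom a) := by
      refine Polynomial.ringHom_ext (fun b => ?_) ?_
      · simp [rho]
      · simp [rho, ha]
    rw [he, ← Polynomial.map_map, show rho.toRingHom ⟨y, hvy⟩ = algebraMap k (IsLocalRing.ResidueField P.O) c from hc.symm] at h2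
    exact IsRoot.of_map h2 (algebraMap k (IsLocalRing.ResidueField P.O)).injective
  let φ : Place k K → k := fun P => if h : P ∈ good then (hres P h).choose else 0
  refine ⟨good.image φ, fun a ha => ?_, ?_⟩
  · obtain ⟨P, hP, rfl⟩ := Finset.mem_image.1 ha
    simp only [φ, dif_pos hP]
    exact (hres P hP).choose_spec.1
  have hfib : ∀ a ∈ good.image φ, (good.filter fun P => φ P = a).card ≤ n := by
    intro a _
    have hnc : x - algebraMap k K a ∉ Set.range (algebraMap k K) := fun ⟨b, hb⟩ =>
      hxT (by rw [show x = algebraMap k K (b + a) by rw [map_add, hb]; ring]; exact isAlgebraic_algebraMap _)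
    have hmem1 : x - algebraMap k K a ∈ k⟮x⟯ :=
      sub_mem (IntermediateField.mem_adjoin_simple_self k x) (IntermediateField.algebraMap_mem _ a)
    have hmem2 : x ∈ k⟮x - algebraMap k K a⟯ := by
      have := add_mem (IntermediateField.mem_adjoin_simple_self k (x - algebraMap k K a))
        (IntermediateField.algebraMap_mem k⟮x - algebraMap k K a⟯ a)
      rwa [sub_add_cancel] at this
    refine (Finset.card_le_card ?_).trans (hzero (x - algebraMap k K a) (transcendental_of_not_mem hK hnc)
      (le_antisymm (IntermediateField.adjoin_simple_le_iff.2 hmem1) (IntermediateField.adjoin_simple_le_iff.2 hmem2)))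
    intro P hP
    obtain ⟨hPg, rfl⟩ := Finset.mem_filter.1 hP
    refine Finset.mem_filter.2 ⟨(Finset.mem_filter.1 hPg).1, ?_⟩
    simp only [φ, dif_pos hPg] at hnc ⊢
    exact (v_lt_one_iff P (fun h0 => hnc ⟨0, by rw [map_zero, h0]⟩)).1 (hres P hPg).choose_spec.2
  have h1 : (good.card : ℝ) ≤ n * ((good.image φ).card : ℝ) := by
    have := Finset.card_le_mul_card_image good n hfib
    exact_mod_cast this
  have h2 : (T.card : ℝ) ≤ good.card + n := by
    have := Finset.card_filter_add_card_filter_not (s := T) (fun P => 0 < P.ord x⁻¹)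
    have hb : T.card ≤ good.card + n := by simp only [good]; omega
    exact_mod_cast hb
  have h3 : 2 * (genus k K : ℝ) * Real.sqrt (Nat.card k) ≤ 2 * ((n ^ 2 * d + 1 : ℕ) : ℝ) * Real.sqrt (Nat.card k) := by
    gcongr
  have h4 := abs_le.1 hW
  linarith [h4.1]

end Groth.Agent.AbscLB
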