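import Mathlib
import Groth.Agent.S2150

/-!
# A plane model is absolutely irreducible when the constants are separably closed in its function field
-/

set_option autoImplicit false
set_option maxHeartbeats 800000

universe u

namespace Groth.Agent.AbscLB

open Polynomial TensorProduct

theorem irreducible_of_closed {L : Type u} [Field L] (F : L[X][X]) (hF : F.Monic)
    (hirr : Irreducible (F.map (algebraMap L[X] (RatFunc L))))
    (hsep : (F.map (algebraMap L[X] (RatFunc L))).Separable)
    (hclosed : ∀ c : AdjoinRoot (F.map (algebraMap L[X] (RatFunc L))), IsSeparable L c →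
      c ∈ Set.range (algebraMap L (AdjoinRoot (F.map (algebraMap L[X] (RatFunc L)))))) :
    Irreducible (F.map (mapRingHom (algebraMap L (AlgebraicClosure L)))) := by
  have : Fact (Irreducible (F.map (algebraMap L[X] (RatFunc L)))) := ⟨hirr⟩
  let Lb := AlgebraicClosure L
  let W := FractionRing Lb[X]
  let A := AlgebraicClosure W
  let emb : Lb[X] →+* A := (algebraMap W A).comp (algebraMap Lb[X] W)
  let rho : RatFunc L →+* A := IsFractionRing.lift (A := L[X])
    (g := emb.comp (mapRingHom (algebraMap L Lb)))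
    (((algebraMap W A).injective.comp (IsFractionRing.injective Lb[X] W)).comp
      (map_injective _ (algebraMap L Lb).injective))
  have hrho : rho.comp (algebraMap L[X] (RatFunc L)) = emb.comp (mapRingHom (algebraMap L Lb)) :=
    RingHom.ext fun g => IsFractionRing.lift_algebraMap (((algebraMap W A).injective.comp
      (IsFractionRing.injective Lb[X] W)).comp (map_injective _ (algebraMap L Lb).injective)) g
  refine (hF.map _).irreducible_iff_natDegree.2 ⟨fun h1 => ?_, fun G H hG hH hGH => ?_⟩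
  · have hdeg := hF.natDegree_map (mapRingHom (algebraMap L Lb))
    rw [h1, natDegree_one] at hdeg
    refine hirr.not_isUnit ?_
    rw [(hF.map (algebraMap L[X] (RatFunc L))).natDegree_eq_zero.1 ((hF.natDegree_map _).trans hdeg.symm)]
    exact isUnit_one
  by_contra hc
  push Not at hc
  obtain ⟨hG0, hH0⟩ := hc
  obtain ⟨g, hg⟩ := IsAlgClosed.exists_root (G.map emb) (by
    rw [degree_eq_natDegree (hG.map _).ne_zero, hG.natDegree_map]; exact_mod_cast hG0)
  obtain ⟨h, hh⟩ := IsAlgClosed.exists_root (H.map emb) (by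
    rw [degree_eq_natDegree (hH.map _).ne_zero, hH.natDegree_map]; exact_mod_cast hH0)
  have hFE : (F.map (algebraMap L[X] (RatFunc L))).map rho = G.map emb * H.map emb := by
    rw [Polynomial.map_map, hrho, ← Polynomial.map_mul, hGH, Polynomial.map_map]
  have hembC : ∀ b : Lb, emb (C b) = algebraMap Lb A b := fun b => by
    show algebraMap W A (algebraMap Lb[X] W (C b)) = _
    rw [← Polynomial.algebraMap_eq, ← IsScalarTower.algebraMap_apply, ← IsScalarTower.algebraMap_apply]
  let K := AdjoinRoot (F.map (algebraMap L[X] (RatFunc L)))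
  have mk : ∀ r : A, (G.map emb * H.map emb).IsRoot r →
      ∃ σ : K →ₐ[L] A, σ (AdjoinRoot.root _) = r ∧
        ∀ q : RatFunc L, σ (algebraMap (RatFunc L) K q) = rho q := by
    intro r hr
    have hr' : (F.map (algebraMap L[X] (RatFunc L))).eval₂ rho r = 0 := by rw [eval₂_eq_eval_map, hFE]; exact hr
    let σ : K →+* A := AdjoinRoot.lift rho r hr'
    refine ⟨{ σ with commutes' := fun a => ?_ }, AdjoinRoot.lift_root hr', fun q => AdjoinRoot.lift_of hr'⟩
    show σ (algebraMap L K a) = _
    rw [IsScalarTower.algebraMap_apply L (RatFunc L) K]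
    show AdjoinRoot.lift rho r hr' (AdjoinRoot.of _ (algebraMap L (RatFunc L) a)) = _
    rw [AdjoinRoot.lift_of hr', IsScalarTower.algebraMap_apply L L[X] (RatFunc L)]
    show (rho.comp (algebraMap L[X] (RatFunc L))) (C a) = _
    rw [hrho, RingHom.comp_apply, coe_mapRingHom, map_C, hembC, ← IsScalarTower.algebraMap_apply]
  obtain ⟨σ₁, hσ₁, hρ₁⟩ := mk g (by rw [IsRoot, eval_mul, show (G.map emb).eval g = 0 from hg, zero_mul])
  obtain ⟨σ₂, hσ₂, hρ₂⟩ := mk h (by rw [IsRoot, eval_mul, show (H.map emb).eval h = 0 from hh, mul_zero])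
  let Φ : (K →ₐ[L] A) → (Lb ⊗[L] K →ₐ[L] A) := fun σ =>
    Algebra.TensorProduct.lift (IsScalarTower.toAlgHom L Lb A) σ fun _ _ => Commute.all _ _
  -- a single prime
  have hirred : IrreducibleSpace (PrimeSpectrum (Lb ⊗[L] K)) := Groth.Agent.S2150.result.2 hclosed Lb
  have hmax : ∀ P : PrimeSpectrum (Lb ⊗[L] K), P.asIdeal.IsMaximal := by
    intro P
    let e := Algebra.TensorProduct.comm L K Lb
    have : (P.asIdeal.comap e.toAlgHom.toRingHom).IsMaximal := by
      refine Ideal.isMaximal_of_isIntegral_of_isMaximal_comap (R := K) _ ?_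
      have : ((P.asIdeal.comap e.toAlgHom.toRingHom).comap (algebraMap K (K ⊗[L] Lb))).IsPrime := inferInstance
      exact this.isMaximal'
    have h2 := Ideal.comap_isMaximal_of_surjective e.symm.toAlgHom.toRingHom e.symm.surjective
      (K := P.asIdeal.comap e.toAlgHom.toRingHom)
    rw [Ideal.comap_comap] at h2
    refine (le_of_eq ?_ : (Ideal.comap _ P.asIdeal) ≤ P.asIdeal) |> fun h => (h2.eq_of_le P.2.ne_top h) ▸ h2
    refine Ideal.ext fun z => ?_
    rw [Ideal.mem_comap]
    exact Eq.to_iff (congrArg (· ∈ P.asIdeal) (e.apply_symm_apply z))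
  have hsub : ∀ P Q : PrimeSpectrum (Lb ⊗[L] K), P = Q := by
    intro P Q
    have hη : ∀ R : PrimeSpectrum (Lb ⊗[L] K), genericPoint (PrimeSpectrum (Lb ⊗[L] K)) = R := fun R =>
      PrimeSpectrum.ext ((hmax _).eq_of_le R.2.ne_top
        ((PrimeSpectrum.le_iff_specializes _ _).2 (genericPoint_specializes R)))
    exact (hη P).symm.trans (hη Q)
  let θ : Lb[X] →ₐ[Lb] Lb ⊗[L] K := aeval ((1 : Lb) ⊗ₜ[L] algebraMap (RatFunc L) K RatFunc.X)
  let z : Lb ⊗[L] K := G.eval₂ θ.toRingHom ((1 : Lb) ⊗ₜ[L] AdjoinRoot.root _)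
  have hz : ∀ (σ : K →ₐ[L] A) (r : A), σ (AdjoinRoot.root _) = r →
      (∀ q : RatFunc L, σ (algebraMap (RatFunc L) K q) = rho q) → Φ σ z = (G.map emb).eval r := by
    intro σ r hr hq
    show (Φ σ).toRingHom (G.eval₂ θ.toRingHom _) = _
    rw [hom_eval₂, eval_map]
    have he : (Φ σ).toRingHom.comp θ.toRingHom = emb := by
      refine Polynomial.ringHom_ext (fun b => ?_) ?_
      · show Φ σ (θ (C b)) = _
        rw [aeval_C, Algebra.TensorProduct.algebraMap_apply, Algebra.TensorProduct.lift_tmul, map_one, mul_one, hembC]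
        rfl
      · show Φ σ (θ X) = _
        rw [aeval_X, Algebra.TensorProduct.lift_tmul, map_one, one_mul, hq]
        rw [← RatFunc.algebraMap_X]
        show (rho.comp (algebraMap L[X] (RatFunc L))) X = _
        rw [hrho, RingHom.comp_apply, coe_mapRingHom, map_X]
    rw [he]
    congr 1
    show Φ σ _ = _
    rw [Algebra.TensorProduct.lift_tmul, map_one, one_mul, hr]
  have hPQ := hsub ⟨RingHom.ker (Φ σ₁), RingHom.ker_isPrime _⟩ ⟨RingHom.ker (Φ σ₂), RingHom.ker_isPrime _⟩
  have hz1 : z ∈ RingHom.ker (Φ σ₁) := by rw [RingHom.mem_ker, hz σ₁ g hσ₁ hρ₁]; exact hg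
  rw [PrimeSpectrum.ext_iff] at hPQ
  rw [show RingHom.ker (Φ σ₁) = RingHom.ker (Φ σ₂) from hPQ, RingHom.mem_ker, hz σ₂ h hσ₂ hρ₂] at hz1
  have hco : IsCoprime (G.map emb) (H.map emb) := (hFE ▸ hsep.map).isCoprime
  exact one_ne_zero (hco.map (evalRingHom h) |> fun hc => by
    obtain ⟨a, b, hab⟩ := hc
    simpa [show (G.map emb).eval h = 0 from hz1, show (H.map emb).eval h = 0 from hh] using hab.symm : (1 : A) = 0)

end Groth.Agent.AbscLB
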