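import Mathlib

/-!
# Specialisations of an absolutely irreducible bivariate polynomial
-/

set_option autoImplicit false
set_option maxHeartbeats 400000

universe u v

namespace Groth.Agent.AbscLB

open Polynomial

theorem coeff_swap {R : Type u} [CommRing R] (p : R[X][X]) (a c : ℕ) :
    ((Bivariate.swap p).coeff c).coeff a = (p.coeff a).coeff c := by
  induction p using Polynomial.induction_on' with
  | add p q hp hq => simp only [map_add, coeff_add, hp, hq]
  | monomial n f =>
    induction f using Polynomial.induction_on' with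
    | add p q hp hq => simp only [map_add, coeff_add, hp, hq]
    | monomial m r =>
      rw [Bivariate.swap_monomial_monomial]
      simp only [coeff_monomial]
      split_ifs <;> simp_all [coeff_monomial]

theorem natDegree_coeff_le {T : Type u} [Field T] {F G H : T[X][X]} {D : ℕ} (hF : F ≠ 0)
    (hD : ∀ a, (F.coeff a).natDegree ≤ D) (h : G * H = F) (a : ℕ) : (G.coeff a).natDegree ≤ D := by
  have hG : G ≠ 0 := fun h0 => hF (by rw [← h, h0, zero_mul])
  have hH : H ≠ 0 := fun h0 => hF (by rw [← h, h0, mul_zero])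
  have h1 : (Bivariate.swap F).natDegree ≤ D := by
    refine natDegree_le_iff_coeff_eq_zero.2 fun c hc => Polynomial.ext fun a => ?_
    rw [coeff_swap, coeff_zero]
    exact coeff_eq_zero_of_natDegree_lt ((hD a).trans_lt (by exact_mod_cast hc))
  rw [← h, map_mul, natDegree_mul ((map_ne_zero_iff _ Bivariate.swap.injective).2 hG)
    ((map_ne_zero_iff _ Bivariate.swap.injective).2 hH)] at h1
  refine natDegree_le_iff_coeff_eq_zero.2 fun c hc => ?_
  rw [← coeff_swap, coeff_eq_zero_of_natDegree_lt (p := Bivariate.swap G) (lt_of_le_of_lt (le_trans (by omega) h1) hc), coeff_zero]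

/-- The monic polynomial with given coefficients. -/
noncomputable def genPoly {R : Type u} [CommRing R] (i D : ℕ) (u : Fin i → Fin (D + 1) → R) : R[X][X] :=
  X ^ i + ∑ a : Fin i, C (∑ c : Fin (D + 1), C (u a c) * X ^ (c : ℕ)) * X ^ (a : ℕ)

theorem genPoly_map {R : Type u} {T : Type v} [CommRing R] [CommRing T] (f : R →+* T) (i D : ℕ)
    (u : Fin i → Fin (D + 1) → R) :
    (genPoly i D u).map (mapRingHom f) = genPoly i D fun a c => f (u a c) := by
  simp [genPoly, Polynomial.map_add, Polynomial.map_sum, Polynomial.map_mul, Polynomial.map_pow]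

theorem degree_genPoly_tail_lt {R : Type u} [CommRing R] (i D : ℕ) (u : Fin i → Fin (D + 1) → R) :
    (∑ a : Fin i, C (∑ c : Fin (D + 1), C (u a c) * X ^ (c : ℕ)) * X ^ (a : ℕ) : R[X][X]).degree < (i : WithBot ℕ) :=
  lt_of_le_of_lt (degree_sum_le _ _) ((Finset.sup_lt_iff (WithBot.bot_lt_coe i)).2 fun a _ =>
    lt_of_le_of_lt (degree_C_mul_X_pow_le _ _) (WithBot.coe_lt_coe.2 a.2))

theorem genPoly_monic {R : Type u} [CommRing R] (i D : ℕ) (u : Fin i → Fin (D + 1) → R) :
    (genPoly i D u).Monic :=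
  monic_X_pow_add (degree_genPoly_tail_lt i D u)

theorem natDegree_genPoly {R : Type u} [CommRing R] [Nontrivial R] (i D : ℕ) (u : Fin i → Fin (D + 1) → R) :
    (genPoly i D u).natDegree = i := by
  refine natDegree_eq_of_degree_eq_some ?_
  rw [genPoly, degree_add_eq_left_of_degree_lt (by rw [degree_X_pow]; exact degree_genPoly_tail_lt i D u), degree_X_pow]

theorem genPoly_eq {R : Type u} [CommRing R] {G : R[X][X]} (hG : G.Monic) {i D : ℕ} (hi : G.natDegree = i)
    (hD : ∀ a, (G.coeff a).natDegree ≤ D) :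
    genPoly i D (fun a c => (G.coeff a).coeff c) = G := by
  conv_rhs => rw [hG.as_sum, hi]
  rw [genPoly, ← Fin.sum_univ_eq_sum_range (fun j => C (G.coeff j) * X ^ j)]
  congr 1
  refine Finset.sum_congr rfl fun a _ => ?_
  congr 2
  conv_rhs => rw [(G.coeff a).as_sum_range_C_mul_X_pow' (Nat.lt_succ_iff.2 (hD a))]
  rw [← Fin.sum_univ_eq_sum_range (fun j => C ((G.coeff a).coeff j) * X ^ j)]

/-- Either some nonzero constant lies in the ideal, or it has a zero over the algebraically closed field. -/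
theorem exists_C_mem_or_zero {B : Type u} [CommRing B] [IsDomain B] (Kb : Type u) [Field Kb]
    [IsAlgClosed Kb] [Algebra B Kb] [FaithfulSMul B Kb] {σ : Type} [Finite σ] (I : Ideal (MvPolynomial σ B)) :
    (∃ b : B, b ≠ 0 ∧ MvPolynomial.C b ∈ I) ∨
      ∃ val : σ → Kb, ∀ x ∈ I, MvPolynomial.eval₂ (algebraMap B Kb) val x = 0 := by
  let L := FractionRing B
  let _ : Algebra L Kb := FractionRing.liftAlgebra B Kb
  let _ : Algebra (MvPolynomial σ B) (MvPolynomial σ L) := (MvPolynomial.map (algebraMap B L)).toAlgebra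
  have : IsLocalization ((nonZeroDivisors B).map (MvPolynomial.C (σ := σ))) (MvPolynomial σ L) :=
    MvPolynomial.isLocalization _ _
  by_cases htop : I.map (algebraMap (MvPolynomial σ B) (MvPolynomial σ L)) = ⊤
  · left
    obtain ⟨⟨x, s⟩, hx⟩ := (IsLocalization.mem_map_algebraMap_iff
      ((nonZeroDivisors B).map (MvPolynomial.C (σ := σ))) (MvPolynomial σ L)).1 (htop ▸ Submodule.mem_top :
        (1 : MvPolynomial σ L) ∈ I.map (algebraMap (MvPolynomial σ B) (MvPolynomial σ L)))
    obtain ⟨b, hb, hbs⟩ := s.2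
    refine ⟨b, nonZeroDivisors.ne_zero hb, ?_⟩
    rw [one_mul] at hx
    have hinj : Function.Injective (algebraMap (MvPolynomial σ B) (MvPolynomial σ L)) :=
      MvPolynomial.map_injective _ (IsFractionRing.injective B L)
    have hxs : (s : MvPolynomial σ B) = x.1 := hinj hx
    have : (MvPolynomial.C b : MvPolynomial σ B) = x.1 := hbs.trans hxs
    rw [this]
    exact x.2
  · right
    obtain ⟨m, hm, hle⟩ := Ideal.exists_le_maximal _ htop
    let _ := Ideal.Quotient.field m
    have : Algebra.FiniteType L (MvPolynomial σ L ⧸ m) :=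
      Algebra.FiniteType.of_surjective (Ideal.Quotient.mkₐ L m) Ideal.Quotient.mk_surjective
    have : Module.Finite L (MvPolynomial σ L ⧸ m) := finite_of_finite_type_of_isJacobsonRing L _
    have : Module.IsTorsionFree L (MvPolynomial σ L ⧸ m) := Module.IsTorsionFree.of_smul_eq_zero fun r y h => smul_eq_zero.1 h
    have : Algebra.IsAlgebraic L (MvPolynomial σ L ⧸ m) := Algebra.IsAlgebraic.of_finite L _
    let ψ : MvPolynomial σ L →ₐ[L] Kb := (IsAlgClosed.lift).comp (Ideal.Quotient.mkₐ L m)
    refine ⟨fun z => ψ (MvPolynomial.X z), fun x hx => ?_⟩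
    have h0 : ψ (MvPolynomial.map (algebraMap B L) x) = 0 := by
      show IsAlgClosed.lift (Ideal.Quotient.mkₐ L m (MvPolynomial.map (algebraMap B L) x)) = 0
      rw [Ideal.Quotient.mkₐ_eq_mk, Ideal.Quotient.eq_zero_iff_mem.2 (show MvPolynomial.map (algebraMap B L) x ∈ m from hle (Ideal.mem_map_of_mem _ hx)), map_zero]
    rw [← h0]
    show MvPolynomial.eval₂Hom (algebraMap B Kb) (fun z => ψ (MvPolynomial.X z)) x =
      (ψ.toRingHom.comp (MvPolynomial.map (algebraMap B L))) x
    refine RingHom.congr_fun (MvPolynomial.ringHom_ext (fun b => ?_) fun z => ?_) x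
    · simp [IsScalarTower.algebraMap_apply B L Kb, ← MvPolynomial.algebraMap_eq]
    · simp

/-- For a fixed degree of a factor. -/
theorem exists_ne_zero_no_factor {B : Type u} [CommRing B] [IsDomain B] (Kb : Type u) [Field Kb]
    [IsAlgClosed Kb] [Algebra B Kb] [FaithfulSMul B Kb] (F : B[X][X]) (hF : F.Monic) {D : ℕ}
    (hD : ∀ a, (F.coeff a).natDegree ≤ D) {i : ℕ} (hi : 0 < i) (hin : i < F.natDegree)
    (h : Irreducible (F.map (mapRingHom (algebraMap B Kb)))) :
    ∃ b : B, b ≠ 0 ∧ ∀ (T : Type u) [Field T] (φ : B →+* T), φ b ≠ 0 →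
      ∀ G H : T[X][X], G.Monic → H.Monic → G * H = F.map (mapRingHom φ) → G.natDegree ≠ i := by
  let σ : Type := (Fin i × Fin (D + 1)) ⊕ (Fin (F.natDegree - i) × Fin (D + 1))
  let Gu : (MvPolynomial σ B)[X][X] := genPoly i D fun a c => MvPolynomial.X (Sum.inl (a, c))
  let Hu : (MvPolynomial σ B)[X][X] := genPoly (F.natDegree - i) D fun a c => MvPolynomial.X (Sum.inr (a, c))
  let E : (MvPolynomial σ B)[X][X] := Gu * Hu - F.map (mapRingHom MvPolynomial.C)
  let I : Ideal (MvPolynomial σ B) := Ideal.span (Set.range fun z : ℕ × ℕ => (E.coeff z.1).coeff z.2)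
  have hmap : ∀ (T : Type u) [Field T] (φ : B →+* T) (val : σ → T),
      E.map (mapRingHom (MvPolynomial.eval₂Hom φ val)) =
        genPoly i D (fun a c => val (Sum.inl (a, c))) *
          genPoly (F.natDegree - i) D (fun a c => val (Sum.inr (a, c))) - F.map (mapRingHom φ) := by
    intro T _ φ val
    rw [Polynomial.map_sub, Polynomial.map_mul, genPoly_map, genPoly_map, Polynomial.map_map, mapRingHom_comp,
      MvPolynomial.eval₂Hom_comp_C]
    simp only [MvPolynomial.eval₂Hom_X']
  rcases exists_C_mem_or_zero Kb I with ⟨b, hb0, hbI⟩ | ⟨val, hval⟩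
  · refine ⟨b, hb0, fun T _ φ hφ G H hG hH hGH hdeg => ?_⟩
    have hHdeg : H.natDegree = F.natDegree - i := by
      rw [← hF.natDegree_map (mapRingHom φ), ← hGH, hG.natDegree_mul hH, hdeg]; omega
    have hDm : ∀ a, ((F.map (mapRingHom φ)).coeff a).natDegree ≤ D := fun a => by
      rw [coeff_map, coe_mapRingHom]; exact natDegree_map_le.trans (hD a)
    have hne : F.map (mapRingHom φ) ≠ 0 := (hF.map _).ne_zero
    let vT : σ → T := Sum.elim (fun z => (G.coeff z.1).coeff z.2) (fun z => (H.coeff z.1).coeff z.2)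
    have hE : E.map (mapRingHom (MvPolynomial.eval₂Hom φ vT)) = 0 := by
      rw [hmap, sub_eq_zero]
      simp only [vT, Sum.elim_inl, Sum.elim_inr]
      rw [genPoly_eq hG hdeg (natDegree_coeff_le hne hDm hGH),
        genPoly_eq hH hHdeg (natDegree_coeff_le hne hDm ((mul_comm H G).trans hGH)), hGH]
    have hle : I ≤ RingHom.ker (MvPolynomial.eval₂Hom φ vT) := Ideal.span_le.2 (by
      rintro _ ⟨z, rfl⟩
      have := congrArg (fun p : T[X][X] => (p.coeff z.1).coeff z.2) hE
      simpa [coeff_map] using this)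
    exact hφ (by simpa using RingHom.mem_ker.1 (hle hbI))
  · exfalso
    have hE : E.map (mapRingHom (MvPolynomial.eval₂Hom (algebraMap B Kb) val)) = 0 :=
      Polynomial.ext fun a => Polynomial.ext fun c => by
        rw [coeff_map, coe_mapRingHom, coeff_map, coeff_zero, coeff_zero]
        exact hval _ (Ideal.subset_span ⟨(a, c), rfl⟩)
    rw [hmap, sub_eq_zero] at hE
    rcases ((hF.map _).irreducible_iff_natDegree.1 h).2 _ _ (genPoly_monic _ _ _) (genPoly_monic _ _ _) hE
      with h0 | h0 <;> rw [natDegree_genPoly] at h0 <;> omega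

/-- An absolutely irreducible monic polynomial stays irreducible at the points of a dense open. -/
theorem exists_irreducible_specialization {B : Type u} [CommRing B] [IsDomain B] (Kb : Type u) [Field Kb]
    [IsAlgClosed Kb] [Algebra B Kb] [FaithfulSMul B Kb] (F : B[X][X]) (hF : F.Monic) (hn : 1 ≤ F.natDegree)
    (h : Irreducible (F.map (mapRingHom (algebraMap B Kb)))) :
    ∃ b : B, b ≠ 0 ∧ ∀ (T : Type u) [Field T] (φ : B →+* T), φ b ≠ 0 →
      Irreducible (F.map (mapRingHom φ)) := by
  classical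
  have hD : ∀ a, (F.coeff a).natDegree ≤ (Finset.range (F.natDegree + 1)).sup fun a => (F.coeff a).natDegree := fun a => by
    by_cases ha : a ≤ F.natDegree
    · exact Finset.le_sup (f := fun a => (F.coeff a).natDegree) (Finset.mem_range.2 (Nat.lt_succ_iff.2 ha))
    · rw [coeff_eq_zero_of_natDegree_lt (not_le.1 ha), natDegree_zero]; exact Nat.zero_le _
  have key : ∀ i ∈ Finset.Ioo 0 F.natDegree, ∃ b : B, b ≠ 0 ∧ ∀ (T : Type u) [Field T] (φ : B →+* T), φ b ≠ 0 →
      ∀ G H : T[X][X], G.Monic → H.Monic → G * H = F.map (mapRingHom φ) → G.natDegree ≠ i := fun i hi =>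
    exists_ne_zero_no_factor Kb F hF hD (Finset.mem_Ioo.1 hi).1 (Finset.mem_Ioo.1 hi).2 h
  choose! bi hbi0 hbi using key
  refine ⟨∏ i ∈ Finset.Ioo 0 F.natDegree, bi i, Finset.prod_ne_zero_iff.2 hbi0, fun T _ φ hφ => ?_⟩
  rw [map_prod, Finset.prod_ne_zero_iff] at hφ
  refine (hF.map _).irreducible_iff_natDegree.2 ⟨fun h1 => ?_, fun G H hG hH hGH => ?_⟩
  · have := hF.natDegree_map (mapRingHom φ)
    rw [h1, natDegree_one] at this
    omega
  · by_contra hc
    push Not at hc
    have := hF.natDegree_map (mapRingHom φ)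
    rw [← hGH, hG.natDegree_mul hH] at this
    have hi : G.natDegree ∈ Finset.Ioo 0 F.natDegree := Finset.mem_Ioo.2 ⟨by omega, by omega⟩
    exact hbi _ hi T φ (hφ _ hi) G H hG hH hGH rfl

end Groth.Agent.AbscLB
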