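import Mathlib
import Groth.Agent.AbscLB.Spread
import Groth.Agent.AbscLB.Regular

/-!
# A plane model over a finitely generated subring
-/

set_option autoImplicit false
set_option maxHeartbeats 800000

universe u

namespace Groth.Agent.AbscLB

open Polynomial
open scoped IntermediateField

/-- Evaluation of a bivariate polynomial at a point of an algebra. -/
noncomputable def evalXY {R A : Type u} [CommRing R] [CommRing A] (i : R →+* A) (x y : A) : R[X][X] →+* A :=
  eval₂RingHom (eval₂RingHom i x) y

theorem evalXY_def {R A : Type u} [CommRing R] [CommRing A] (i : R →+* A) (x y : A) (p : R[X][X]) :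
    evalXY i x y p = p.eval₂ (eval₂RingHom i x) y := rfl

theorem evalXY_map {R S A : Type u} [CommRing R] [CommRing S] [CommRing A] (j : R →+* S) (i : S →+* A) (x y : A)
    (p : R[X][X]) : evalXY i x y (p.map (mapRingHom j)) = evalXY (i.comp j) x y p := by
  rw [evalXY_def, evalXY_def, eval₂_map]
  congr 1
  refine Polynomial.ringHom_ext (fun a => ?_) ?_ <;> simp

theorem exists_lift {L : Type u} [CommRing L] (B : Subalgebra ℤ L) (p : L[X][X])
    (h : ∀ a c, (p.coeff a).coeff c ∈ B) : ∃ q : B[X][X], q.map (mapRingHom B.val.toRingHom) = p := by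
  refine (Polynomial.mem_lifts p).1 ((Polynomial.lifts_iff_coeff_lifts p).2 fun a => ?_)
  obtain ⟨q, hq⟩ := (Polynomial.mem_lifts (f := B.val.toRingHom) (p.coeff a)).1
    ((Polynomial.lifts_iff_coeff_lifts (p.coeff a)).2 fun c => ⟨⟨(p.coeff a).coeff c, h a c⟩, rfl⟩)
  exact ⟨q, hq⟩

/-- The coefficients of a bivariate polynomial. -/
def coeffSet {L : Type u} [CommRing L] (p : L[X][X]) : Set L :=
  Set.range (fun z : ℕ × ℕ => (p.coeff z.1).coeff z.2)

theorem finite_coeffSet {L : Type u} [CommRing L] (p : L[X][X]) : (coeffSet p).Finite := by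
  classical
  refine ((Set.finite_singleton (0 : L)).union
    ((p.support.biUnion fun a => (p.coeff a).support.image (p.coeff a).coeff).finite_toSet)).subset ?_
  rintro _ ⟨⟨a, c⟩, rfl⟩
  by_cases h : (p.coeff a).coeff c = 0
  · exact Or.inl h
  · refine Or.inr (Finset.mem_coe.2 (Finset.mem_biUnion.2 ⟨a, ?_, Finset.mem_image.2 ⟨c, mem_support_iff.2 h, rfl⟩⟩))
    exact mem_support_iff.2 fun h0 => h (by rw [h0, coeff_zero])

theorem exists_model {L K : Type u} [Field L] [Field K] [Algebra L K] (x : K) (hx : Transcendental L x)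
    [FiniteDimensional L⟮x⟯ K] [Algebra.IsSeparable L⟮x⟯ K]
    (hclosed : ∀ c : K, IsSeparable L c → c ∈ Set.range (algebraMap L K)) (Z : Finset K) :
    ∃ (y : K) (F : L[X][X]) (h : L[X]) (P : K → L[X][X]), F.Monic ∧ 1 ≤ F.natDegree ∧
      Irreducible (F.map (mapRingHom (algebraMap L (AlgebraicClosure L)))) ∧
      (∀ p : L[X][X], p.degree < F.degree → evalXY (algebraMap L K) x y p = 0 → p = 0) ∧
      evalXY (algebraMap L K) x y F = 0 ∧ h ≠ 0 ∧
      ∀ z ∈ Z, z * aeval x h = evalXY (algebraMap L K) x y (P z) := by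
  classical
  let e : RatFunc L ≃ₐ[L] L⟮x⟯ := RatFunc.algEquivOfTranscendental x hx
  let _ : Algebra (RatFunc L) K := ((algebraMap L⟮x⟯ K).comp e.toRingEquiv.toRingHom).toAlgebra
  have : IsScalarTower L (RatFunc L) K := IsScalarTower.of_algebraMap_eq fun a => by
    show _ = algebraMap L⟮x⟯ K (e (algebraMap L (RatFunc L) a))
    rw [e.commutes]
    rfl
  let _ : Algebra L[X] K := (aeval x).toRingHom.toAlgebra
  have htower : IsScalarTower L[X] (RatFunc L) K := IsScalarTower.of_algebraMap_eq fun g => by
    show aeval x g = algebraMap L⟮x⟯ K (e (algebraMap L[X] (RatFunc L) g))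
    rw [RatFunc.algEquivOfTranscendental_algebraMap, ← aeval_algebraMap_apply]
    rfl
  have hfin : FiniteDimensional (RatFunc L) K := by
    refine FiniteDimensional.of_finrank_pos ?_
    rw [Algebra.finrank_eq_of_equiv_equiv e.toRingEquiv (RingEquiv.refl K) rfl]
    exact Module.finrank_pos
  have hsepK : Algebra.IsSeparable (RatFunc L) K :=
    Algebra.IsSeparable.of_equiv_equiv e.toRingEquiv.symm (RingEquiv.refl K) (by
      ext w
      show algebraMap L⟮x⟯ K (e (e.symm w)) = algebraMap L⟮x⟯ K w
      rw [e.apply_symm_apply])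
  obtain ⟨y₀, hy₀⟩ := Field.exists_primitive_element (RatFunc L) K
  obtain ⟨m, hm⟩ := IsIntegral.exists_multiple_integral_of_isLocalization (R := L[X]) (nonZeroDivisors L[X]) y₀
    (Algebra.IsIntegral.isIntegral (R := RatFunc L) y₀)
  let y : K := m • y₀
  have hyR : IntermediateField.adjoin (RatFunc L) ({y} : Set K) = ⊤ := by
    refine top_le_iff.1 (hy₀ ▸ IntermediateField.adjoin_simple_le_iff.2 ?_)
    have hm0 : algebraMap (RatFunc L) K (algebraMap L[X] (RatFunc L) m.1) ≠ 0 :=
      fun h0 => nonZeroDivisors.coe_ne_zero m (IsFractionRing.injective L[X] (RatFunc L)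
        ((algebraMap (RatFunc L) K).injective (by rw [h0, map_zero, map_zero])))
    have hy' : y₀ = (algebraMap (RatFunc L) K (algebraMap L[X] (RatFunc L) m.1))⁻¹ * y := by
      show _ = _ * (m.1 • y₀)
      rw [Algebra.smul_def, ← IsScalarTower.algebraMap_apply, ← mul_assoc, inv_mul_cancel₀, one_mul]
      rwa [← IsScalarTower.algebraMap_apply] at hm0
    rw [hy']
    exact mul_mem (inv_mem (IntermediateField.algebraMap_mem _ _)) (IntermediateField.mem_adjoin_simple_self _ y)
  have hyint : IsIntegral L[X] y := hm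
  have hyintR : IsIntegral (RatFunc L) y := Algebra.IsIntegral.isIntegral y
  let F := minpoly L[X] y
  have hFR : minpoly (RatFunc L) y = F.map (algebraMap L[X] (RatFunc L)) :=
    minpoly.isIntegrallyClosed_eq_field_fractions' (RatFunc L) hyint
  have hev : ∀ p : L[X][X], evalXY (algebraMap L K) x y p = aeval y (p.map (algebraMap L[X] (RatFunc L))) := by
    intro p
    rw [aeval_map_algebraMap, aeval_def, evalXY_def]
    congr 1
  have hFm : F.Monic := minpoly.monic hyint
  have : Fact (Irreducible (F.map (algebraMap L[X] (RatFunc L)))) := ⟨hFR ▸ minpoly.irreducible hyintR⟩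
  have hz : ∀ z : K, ∃ (h : L[X]) (P : L[X][X]), h ≠ 0 ∧ z * aeval x h = evalXY (algebraMap L K) x y P := by
    intro z
    have hmem : z ∈ Algebra.adjoin (RatFunc L) ({y} : Set K) := by
      rw [← IntermediateField.adjoin_simple_toSubalgebra_of_isAlgebraic hyintR.isAlgebraic, hyR]
      exact trivial
    rw [Algebra.adjoin_singleton_eq_range_aeval] at hmem
    obtain ⟨q, rfl⟩ := hmem
    obtain ⟨b, hb⟩ := IsLocalization.integerNormalization_map_to_map (nonZeroDivisors L[X]) q
    refine ⟨b.1, IsLocalization.integerNormalization (nonZeroDivisors L[X]) q, nonZeroDivisors.coe_ne_zero b, ?_⟩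
    rw [hev, hb]
    show aeval y q * algebraMap L[X] K b.1 = aeval y (b.1 • q)
    rw [AlgHom.map_smul_of_tower, Algebra.smul_def, mul_comm]
  choose hh PP hh0 hPP using hz
  refine ⟨y, F, ∏ z ∈ Z, hh z, fun z => C (∏ w ∈ Z.erase z, hh w) * PP z, hFm, ?_, ?_, ?_, ?_,
    Finset.prod_ne_zero_iff.2 fun z _ => hh0 z, ?_⟩
  · exact minpoly.natDegree_pos hyint
  · refine irreducible_of_closed F hFm Fact.out ?_ fun c hc => ?_
    · rw [← hFR]; exact Algebra.IsSeparable.isSeparable (RatFunc L) y
    · have hr : (F.map (algebraMap L[X] (RatFunc L))).eval₂ (algebraMap (RatFunc L) K) y = 0 := by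
        rw [← aeval_def, ← hFR]; exact minpoly.aeval _ _
      let ι : AdjoinRoot (F.map (algebraMap L[X] (RatFunc L))) →ₐ[L] K :=
        { AdjoinRoot.lift (algebraMap (RatFunc L) K) y hr with
          commutes' := fun a => by
            show AdjoinRoot.lift (algebraMap (RatFunc L) K) y hr _ = _
            rw [IsScalarTower.algebraMap_apply L (RatFunc L) (AdjoinRoot _)]
            show AdjoinRoot.lift (algebraMap (RatFunc L) K) y hr (AdjoinRoot.of _ _) = _
            rw [AdjoinRoot.lift_of hr, ← IsScalarTower.algebraMap_apply] }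
      have hsep' : IsSeparable L (ι c) := by
        unfold IsSeparable at hc ⊢
        rwa [minpoly.algHom_eq ι ι.toRingHom.injective]
      obtain ⟨a, ha⟩ := hclosed (ι c) hsep'
      exact ⟨a, ι.toRingHom.injective (by show ι _ = ι c; rw [ι.commutes, ha])⟩
  · intro p hp h0
    rw [hev] at h0
    by_contra hne
    have hne' : p.map (algebraMap L[X] (RatFunc L)) ≠ 0 :=
      (Polynomial.map_ne_zero_iff (IsFractionRing.injective L[X] (RatFunc L))).2 hne
    have := minpoly.degree_le_of_ne_zero (RatFunc L) y hne' h0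
    rw [hFR, hFm.degree_map, degree_map_eq_of_injective (IsFractionRing.injective L[X] (RatFunc L))] at this
    exact absurd this (not_le.2 hp)
  · rw [hev, ← hFR]; exact minpoly.aeval _ _
  · intro z hzZ
    rw [map_mul, ← Finset.mul_prod_erase Z hh hzZ, map_mul, ← hPP z]
    have : evalXY (algebraMap L K) x y (C (∏ w ∈ Z.erase z, hh w)) = aeval x (∏ w ∈ Z.erase z, hh w) := by
      rw [evalXY_def, eval₂_C]; rfl
    rw [this]
    ring

end Groth.Agent.AbscLB
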