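import Mathlib
import Groth.Agent.AbscLB.Model
import Groth.Agent.AbscLB.CurvePts

/-!
# Many points of a finitely generated domain with values in finite fields
-/

set_option autoImplicit false
set_option maxHeartbeats 1600000

universe u

namespace Groth.Agent.AbscLB

open Polynomial
open scoped IntermediateField

theorem evalXY_kernel {B K : Type u} [CommRing B] [IsDomain B] [Field K] {i : B →+* K} {x y : K} {F : B[X][X]}
    (hF : F.Monic) (hFx : evalXY i x y F = 0)
    (hmin : ∀ p : B[X][X], p.degree < F.degree → evalXY i x y p = 0 → p = 0)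
    {p : B[X][X]} (hp : evalXY i x y p = 0) : F ∣ p := by
  refine (modByMonic_eq_zero_iff_dvd hF).1 (hmin _ (degree_modByMonic_lt p hF) ?_)
  have h := congrArg (evalXY i x y) (modByMonic_add_div p F)
  rw [map_add, map_mul, hFx, zero_mul, add_zero, hp] at h
  exact h

theorem exists_coeff_relation {B K : Type u} [CommRing B] [IsDomain B] [Field K] {i : B →+* K} {x y : K}
    {F : B[X][X]} (hF : F.Monic) (hFx : evalXY i x y F = 0) (G : B[X][X]) (hG : evalXY i x y G ≠ 0) :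
    ∃ (v : B[X]) (U : B[X][X]), v ≠ 0 ∧ evalXY i x y (C v + U * G) = 0 := by
  classical
  let _ : Algebra B[X] K := (eval₂RingHom i x).toAlgebra
  have hev : ∀ p : B[X][X], evalXY i x y p = aeval y p := fun p => rfl
  have hy : IsIntegral B[X] y := ⟨F, hF, by rw [← aeval_def, ← hev]; exact hFx⟩
  have hGi : IsIntegral B[X] (evalXY i x y G) :=
    IsIntegral.of_mem_of_fg (Algebra.adjoin B[X] {y}) hy.fg_adjoin_singleton _
      (by rw [hev]; exact aeval_mem_adjoin_singleton B[X] y)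
  obtain ⟨p, hpm, hp⟩ := hGi
  obtain ⟨q, hq, hqd⟩ := exists_eq_pow_rootMultiplicity_mul_and_not_dvd p hpm.ne_zero 0
  rw [map_zero, sub_zero] at hq hqd
  have hq0 : q.coeff 0 ≠ 0 := fun h => hqd (X_dvd_iff.2 h)
  have hqv : q.eval₂ (algebraMap B[X] K) (evalXY i x y G) = 0 := by
    rw [hq, eval₂_mul, eval₂_X_pow] at hp
    exact (mul_eq_zero.1 hp).resolve_left (pow_ne_zero _ hG)
  refine ⟨q.coeff 0, aeval G q.divX, hq0, ?_⟩
  have hsplit : q = q.divX * X + C (q.coeff 0) := (divX_mul_X_add q).symm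
  rw [hsplit, eval₂_add, eval₂_mul, eval₂_X, eval₂_C] at hqv
  rw [map_add, map_mul, hev (C (q.coeff 0)), aeval_C, add_comm]
  convert hqv using 3
  rw [hev, ← aeval_algHom_apply, ← hev]
  rfl

/-- The data of a family of points over finite fields. -/
structure PointFamily (C₀ : Type u) [CommRing C₀] (B : Type u) [CommRing B] (b : B) (c : ℝ) (Q₀ : ℕ) : Prop where
  num_den : ∃ nd : B → C₀ × C₀, ∀ (κ : Type u) [Field κ] [Finite κ] (ψ : B →+* κ), ψ b ≠ 0 → Q₀ < Nat.card κ →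
    ∃ S : Finset (C₀ →+* κ), c * (Nat.card κ : ℝ) ≤ S.card ∧
      ∀ φ ∈ S, ∀ β : B, φ (nd β).2 ≠ 0 ∧ φ (nd β).1 = ψ β * φ (nd β).2

theorem frac_closure {B K C₀ : Type u} [CommRing B] [Field K] [CommRing C₀] [Algebra C₀ K] (i : B →+* K)
    (gen : Set B) (hgen : Algebra.adjoin ℤ gen = ⊤) (nd : B → C₀ × C₀)
    (hnd : ∀ β ∈ gen, algebraMap C₀ K (nd β).2 ≠ 0) :
    ∀ β : B, ∃ n d : C₀, ∀ (κ : Type u) [Field κ] (φ : C₀ →+* κ) (ψ : B →+* κ),
      (∀ γ ∈ gen, φ (nd γ).2 ≠ 0 ∧ φ (nd γ).1 = ψ γ * φ (nd γ).2) → φ d ≠ 0 ∧ φ n = ψ β * φ d := by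
  intro β
  have hβ : β ∈ Algebra.adjoin ℤ gen := hgen ▸ Algebra.mem_top
  induction hβ using Algebra.adjoin_induction with
  | mem γ hγ => exact ⟨(nd γ).1, (nd γ).2, fun κ _ φ ψ h => h γ hγ⟩
  | algebraMap z => exact ⟨(z : C₀), 1, fun κ _ φ ψ _ => by simp⟩
  | add γ δ _ _ hγ hδ =>
    obtain ⟨n₁, d₁, h₁⟩ := hγ
    obtain ⟨n₂, d₂, h₂⟩ := hδ
    refine ⟨n₁ * d₂ + n₂ * d₁, d₁ * d₂, fun κ _ φ ψ h => ?_⟩
    obtain ⟨a₁, b₁⟩ := h₁ κ φ ψ h
    obtain ⟨a₂, b₂⟩ := h₂ κ φ ψ h
    refine ⟨by rw [map_mul]; exact mul_ne_zero a₁ a₂, ?_⟩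
    simp only [map_add, map_mul, b₁, b₂]; ring
  | mul γ δ _ _ hγ hδ =>
    obtain ⟨n₁, d₁, h₁⟩ := hγ
    obtain ⟨n₂, d₂, h₂⟩ := hδ
    refine ⟨n₁ * n₂, d₁ * d₂, fun κ _ φ ψ h => ?_⟩
    obtain ⟨a₁, b₁⟩ := h₁ κ φ ψ h
    obtain ⟨a₂, b₂⟩ := h₂ κ φ ψ h
    refine ⟨by rw [map_mul]; exact mul_ne_zero a₁ a₂, ?_⟩
    simp only [map_mul, b₁, b₂]; ring

theorem exists_point {P K κ C₀ : Type u} [CommRing P] [Field K] [Field κ] [CommRing C₀] (E : P →+* K)
    (em : C₀ →+* K) (p₀ : P) (hp₀ : E p₀ ≠ 0) (hrep : ∀ z, ∃ (p : P) (N : ℕ), em z * E p₀ ^ N = E p)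
    (ev : P →+* κ) (hle : ∀ p, E p = 0 → ev p = 0) (hev : ev p₀ ≠ 0) :
    ∃ φ : C₀ →+* κ, ∀ (z : C₀) (p : P) (N : ℕ), em z * E p₀ ^ N = E p → φ z * ev p₀ ^ N = ev p := by
  choose p N hpN using hrep
  have key : ∀ (z : C₀) (q : P) (M : ℕ), em z * E p₀ ^ M = E q →
      ev (p z) / ev p₀ ^ N z * ev p₀ ^ M = ev q := by
    intro z q M h
    have h0 := hle (p z * p₀ ^ M - q * p₀ ^ N z) (by
      rw [map_sub, map_mul, map_mul, map_pow, map_pow, ← hpN, ← h]; ring)
    rw [map_sub, map_mul, map_mul, map_pow, map_pow, sub_eq_zero] at h0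
    rw [div_mul_eq_mul_div, h0, mul_div_assoc, div_self (pow_ne_zero _ hev), mul_one]
  let φ : C₀ →+* κ :=
    { toFun := fun z => ev (p z) / ev p₀ ^ N z
      map_one' := ?_
      map_mul' := ?_
      map_zero' := ?_
      map_add' := ?_ }
  refine ⟨φ, key⟩
  · simpa using key 1 1 0 (by simp)
  · intro a b
    have h := key (a * b) (p a * p b) (N a + N b) (by rw [map_mul, map_mul, pow_add, ← hpN, ← hpN]; ring)
    rw [map_mul] at h
    rw [div_mul_div_comm, ← pow_add, eq_div_iff (pow_ne_zero _ hev)]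
    exact h
  · simpa using key 0 0 0 (by simp)
  · intro a b
    have h := key (a + b) (p a * p₀ ^ N b + p b * p₀ ^ N a) (N a + N b) (by
      rw [map_add, map_add, map_mul, map_mul, map_pow, map_pow, pow_add, ← hpN, ← hpN]; ring)
    rw [map_add, map_mul, map_mul, map_pow, map_pow] at h
    rw [div_add_div _ _ (pow_ne_zero _ hev) (pow_ne_zero _ hev), ← pow_add, eq_div_iff (pow_ne_zero _ hev)]
    rw [h]; ring

theorem exists_subalgebra {L : Type u} [Field L] (T : Finset L) :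
    ∃ B : Subalgebra ℤ L, B.FG ∧ ↑T ⊆ (B : Set L) :=
  ⟨Algebra.adjoin ℤ T, ⟨T, rfl⟩, Algebra.subset_adjoin⟩

/-- A finitely generated domain whose field is a regular function field of one variable over a field `L` has many
points over the finite-field points of a finitely generated subring of `L`. -/
theorem exists_pointFamily {C₀ K L : Type u} [CommRing C₀] [IsDomain C₀] [Algebra.FiniteType ℤ C₀] [Field K]
    [Algebra C₀ K] [IsFractionRing C₀ K] [Field L] [Algebra L K] (x : K) (hx : Transcendental L x)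
    [FiniteDimensional L⟮x⟯ K] [Algebra.IsSeparable L⟮x⟯ K]
    (hclosed : ∀ c : K, IsSeparable L c → c ∈ Set.range (algebraMap L K)) (T : Finset L) :
    ∃ (B : Subalgebra ℤ L) (b : B) (c : ℝ) (Q₀ : ℕ), B.FG ∧ ↑T ⊆ (B : Set L) ∧ b ≠ 0 ∧ 0 < c ∧
      PointFamily C₀ B b c Q₀ := by
  classical
  obtain ⟨gens, hgens⟩ := Algebra.FiniteType.out (R := ℤ) (A := C₀)
  obtain ⟨y, F, h, P, hFm, hn1, hirr, hmin, hFxy, hh0, hP⟩ :=
    exists_model x hx hclosed (gens.image (algebraMap C₀ K))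
  let T' : Finset L := T ∪ (finite_coeffSet F).toFinset ∪ h.support.image h.coeff ∪
    (gens.biUnion fun g => (finite_coeffSet (P (algebraMap C₀ K g))).toFinset)
  obtain ⟨B, hB, hTB⟩ := exists_subalgebra T'
  let j : B →+* L := B.val.toRingHom
  have hj : Function.Injective j := Subtype.val_injective
  let i : B →+* K := (algebraMap L K).comp j
  have hi : Function.Injective i := (algebraMap L K).injective.comp hj
  obtain ⟨F₁, hF₁⟩ := exists_lift B F fun a c => hTB (by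
    simp only [T', Finset.coe_union, Set.mem_union, Finset.mem_coe, Set.Finite.mem_toFinset]
    exact Or.inl (Or.inl (Or.inr ⟨(a, c), rfl⟩)))
  have hmj : Function.Injective (mapRingHom j : B[X] →+* L[X]) := map_injective _ hj
  have hF₁m : F₁.Monic := monic_of_injective hmj (by rw [hF₁]; exact hFm)
  have hF₁n : F₁.natDegree = F.natDegree := by rw [← hF₁, natDegree_map_eq_of_injective hmj]
  obtain ⟨h₁, hh₁⟩ : ∃ h₁ : B[X], h₁.map j = h := (Polynomial.mem_lifts _).1
    ((Polynomial.lifts_iff_coeff_lifts h).2 fun c => by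
      by_cases hc : h.coeff c = 0
      · exact ⟨0, by rw [map_zero, hc]⟩
      · refine ⟨⟨h.coeff c, hTB ?_⟩, rfl⟩
        simp only [T', Finset.coe_union, Set.mem_union, Finset.mem_coe]
        exact Or.inl (Or.inr (Finset.mem_image.2 ⟨c, mem_support_iff.2 hc, rfl⟩)))
  have hh₁0 : h₁ ≠ 0 := fun h0 => hh0 (by rw [← hh₁, h0, Polynomial.map_zero])
  have hP₁ : ∀ g ∈ gens, ∃ p : B[X][X], evalXY i x y p = algebraMap C₀ K g * evalXY i x y (C h₁) := by
    intro g hg
    obtain ⟨p, hp⟩ := exists_lift B (P (algebraMap C₀ K g)) fun a c => hTB (by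
      simp only [T', Finset.coe_union, Set.mem_union, Finset.mem_coe, Finset.mem_biUnion]
      exact Or.inr ⟨g, hg, (Set.Finite.mem_toFinset _).2 ⟨(a, c), rfl⟩⟩)
    refine ⟨p, ?_⟩
    rw [← evalXY_map j (algebraMap L K), hp, ← hP _ (Finset.mem_image_of_mem _ hg)]
    congr 1
    rw [evalXY_def, eval₂_C, aeval_def, ← hh₁, eval₂_map]
    rfl
  -- the evaluation
  have hker : ∀ p : B[X][X], evalXY i x y p = 0 → F₁ ∣ p := by
    intro p hp
    refine evalXY_kernel hF₁m ?_ (fun q hq hq0 => ?_) hp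
    · rw [← evalXY_map j (algebraMap L K), hF₁]; exact hFxy
    · rw [← evalXY_map j (algebraMap L K)] at hq0
      refine map_injective _ hmj ((hmin _ ?_ hq0).trans (Polynomial.map_zero _).symm)
      rwa [← hF₁, degree_map_eq_of_injective hmj, degree_map_eq_of_injective hmj]
  let E : B[X][X] →+* K := evalXY i x y
  have hhD : E (C h₁) ≠ 0 := by
    intro h0
    obtain ⟨q, hq⟩ := hker (C h₁) h0
    have := congrArg natDegree hq
    rw [natDegree_C, natDegree_mul hF₁m.ne_zero (fun hq0 => by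
      rw [hq0, mul_zero] at hq; exact hh₁0 (C_eq_zero.1 hq)), hF₁n] at this
    omega
  have hrep : ∀ z : C₀, ∃ (p : B[X][X]) (N : ℕ), algebraMap C₀ K z * E (C h₁) ^ N = E p := by
    intro z
    have hz : z ∈ Algebra.adjoin ℤ (gens : Set C₀) := hgens ▸ Algebra.mem_top
    induction hz using Algebra.adjoin_induction with
    | mem g hg =>
      obtain ⟨p, hp⟩ := hP₁ g hg
      exact ⟨p, 1, by rw [pow_one]; exact hp.symm⟩
    | algebraMap a => exact ⟨(a : B[X][X]), 0, by rw [pow_zero, mul_one, eq_intCast, map_intCast]; exact (map_intCast (evalXY i x y) a).symm⟩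
    | add u v _ _ hu hv =>
      obtain ⟨p, N, hpN⟩ := hu
      obtain ⟨q, M, hqM⟩ := hv
      exact ⟨p * C h₁ ^ M + q * C h₁ ^ N, N + M, by
        rw [map_add, map_add, map_mul, map_mul, map_pow, map_pow, ← hpN, ← hqM, pow_add]; ring⟩
    | mul u v _ _ hu hv =>
      obtain ⟨p, N, hpN⟩ := hu
      obtain ⟨q, M, hqM⟩ := hv
      exact ⟨p * q, N + M, by rw [map_mul, map_mul, ← hpN, ← hqM, pow_add]; ring⟩
  -- generators as fractions
  obtain ⟨gB, hgB⟩ : (⊤ : Subalgebra ℤ B).FG := (Subalgebra.fg_top B).2 hB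
  have hfrac : ∀ w : K, ∃ n d : C₀, algebraMap C₀ K d ≠ 0 ∧ algebraMap C₀ K n = w * algebraMap C₀ K d := by
    intro w
    obtain ⟨n, d, hd, hw⟩ := IsFractionRing.div_surjective (A := C₀) w
    have hd0 : algebraMap C₀ K d ≠ 0 :=
      IsFractionRing.to_map_ne_zero_of_mem_nonZeroDivisors hd
    exact ⟨n, d, hd0, by rw [← hw, div_mul_cancel₀ _ hd0]⟩
  choose nn dd hdd hnn using hfrac
  let g : C₀ := dd x * ∏ β ∈ gB, dd (i β)
  have hg : algebraMap C₀ K g ≠ 0 := by
    rw [map_mul, map_prod]; exact mul_ne_zero (hdd x) (Finset.prod_ne_zero_iff.2 fun β _ => hdd _)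
  obtain ⟨G, N, hGN⟩ := hrep g
  have hG : E G ≠ 0 := hGN ▸ mul_ne_zero hg (pow_ne_zero _ hhD)
  obtain ⟨v, U, hv0, hvU⟩ := exists_coeff_relation hF₁m
    (by rw [← evalXY_map j (algebraMap L K), hF₁]; exact hFxy) G hG
  -- spreading out absolute irreducibility
  let Kb := AlgebraicClosure L
  have : FaithfulSMul B Kb :=
    (faithfulSMul_iff_algebraMap_injective B Kb).2 ((algebraMap L Kb).injective.comp hj)
  obtain ⟨b₀, hb₀, hspec⟩ := exists_irreducible_specialization Kb F₁ hF₁m (by omega) (by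
    rw [← hF₁, Polynomial.map_map, mapRingHom_comp] at hirr
    exact hirr)
  let d := (Finset.range (F₁.natDegree + 1)).sup fun a => (F₁.coeff a).natDegree
  have hd : ∀ a, (F₁.coeff a).natDegree ≤ d := fun a => by
    by_cases ha : a ≤ F₁.natDegree
    · exact Finset.le_sup (f := fun a => (F₁.coeff a).natDegree) (Finset.mem_range.2 (Nat.lt_succ_iff.2 ha))
    · rw [coeff_eq_zero_of_natDegree_lt (not_le.1 ha), natDegree_zero]; exact Nat.zero_le _
  set n := F₁.natDegree
  have hn : 1 ≤ n := by omega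
  let Gg : ℝ := 2 * ((n ^ 2 * d + 1 : ℕ) : ℝ)
  let Cc : ℝ := n + n * (h₁.natDegree + v.natDegree)
  refine ⟨B, b₀ * h₁.leadingCoeff * v.leadingCoeff, 1 / (2 * n), ⌈16 * Gg ^ 2 + 4 * Cc⌉₊, hB,
    (Finset.coe_subset.2 (fun t ht => by simp only [T', Finset.mem_union]; exact Or.inl (Or.inl (Or.inl ht)))).trans hTB,
    mul_ne_zero (mul_ne_zero hb₀ (leadingCoeff_ne_zero.2 hh₁0)) (leadingCoeff_ne_zero.2 hv0), by positivity, ⟨?_⟩⟩
  have hclos := frac_closure (C₀ := C₀) i (gB : Set B) hgB (fun β => (nn (i β), dd (i β))) fun β _ => hdd _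
  choose N' D' hND using hclos
  refine ⟨fun β => (N' β, D' β), fun κ _ _ ψ hψ hQ => ?_⟩
  rw [map_mul, map_mul] at hψ
  obtain ⟨⟨hψb, hψh⟩, hψv⟩ : (ψ b₀ ≠ 0 ∧ ψ h₁.leadingCoeff ≠ 0) ∧ ψ v.leadingCoeff ≠ 0 := by
    simpa [mul_ne_zero_iff] using hψ
  let Fb : κ[X][X] := F₁.map (mapRingHom ψ)
  obtain ⟨S, hS, hScard⟩ := exists_rational_abscissae (F := Fb) (d := d) (hF₁m.map _) (hF₁m.natDegree_map _) hn
    (fun a => by rw [coeff_map, coe_mapRingHom]; exact natDegree_map_le.trans (hd a))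
    (by
      have h2 := hspec (AlgebraicClosure κ) ((algebraMap κ (AlgebraicClosure κ)).comp ψ)
        (by simpa using hψb)
      rwa [Polynomial.map_map, mapRingHom_comp])
  let bad : Finset κ := (h₁.map ψ).roots.toFinset ∪ (v.map ψ).roots.toFinset
  let good := S.filter fun a => a ∉ bad
  have hgood : ∀ a ∈ good, ∃ φ : C₀ →+* κ, (∀ γ ∈ (gB : Set B), φ (dd (i γ)) ≠ 0 ∧
      φ (nn (i γ)) = ψ γ * φ (dd (i γ))) ∧ φ (dd x) ≠ 0 ∧ φ (nn x) = a * φ (dd x) := by
    intro a ha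
    obtain ⟨haS, habad⟩ := Finset.mem_filter.1 ha
    simp only [bad, Finset.mem_union, Multiset.mem_toFinset, not_or] at habad
    obtain ⟨c, hc⟩ := hS a haS
    let ev : B[X][X] →+* κ := evalXY ψ a c
    have hevF : ev F₁ = 0 := by
      show evalXY ψ a c F₁ = 0
      rw [evalXY_def]
      have : eval₂RingHom ψ a = (evalRingHom a).comp (mapRingHom ψ) :=
        Polynomial.ringHom_ext (fun r => by simp) (by simp)
      rw [this, eval₂_eq_eval_map, ← Polynomial.map_map]
      exact hc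
    have hevC : ∀ w : B[X], ev (C w) = (w.map ψ).eval a := fun w => by
      show evalXY ψ a c (C w) = _
      rw [evalXY_def, eval₂_C, eval_map]
      rfl
    have hevh : ev (C h₁) ≠ 0 := fun h0 => habad.1 ((mem_roots (fun hz => hψh (by
      have := congrArg (fun p => p.coeff h₁.natDegree) hz
      simpa [coeff_map] using this))).2 (by rw [IsRoot, ← hevC]; exact h0))
    have hevv : ev (C v) ≠ 0 := fun h0 => habad.2 ((mem_roots (fun hz => hψv (by
      have := congrArg (fun p => p.coeff v.natDegree) hz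
      simpa [coeff_map] using this))).2 (by rw [IsRoot, ← hevC]; exact h0))
    obtain ⟨φ, hφ⟩ := exists_point E (algebraMap C₀ K) (C h₁) hhD hrep ev (fun p hp => by
      obtain ⟨q, rfl⟩ := hker p hp
      rw [map_mul, hevF, zero_mul]) hevh
    have hφg : φ g ≠ 0 := by
      intro h0
      have h1 := hφ g G N hGN
      rw [h0, zero_mul] at h1
      obtain ⟨q, hq⟩ := hker _ hvU
      have h2 := congrArg ev hq
      rw [map_add, map_mul, map_mul, hevF, zero_mul, ← h1, mul_zero, add_zero] at h2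
      exact hevv h2
    rw [map_mul, map_prod, mul_ne_zero_iff, Finset.prod_ne_zero_iff] at hφg
    have hrel : ∀ (w : K) (p : B[X][X]), E p = w → φ (nn w) = ev p * φ (dd w) := by
      intro w p hp
      obtain ⟨q, M, hq⟩ := hrep (dd w)
      have h1 := hφ (nn w) (p * q) M (by rw [hnn w, map_mul, hp, ← hq]; ring)
      rw [map_mul, ← hφ (dd w) q M hq, ← mul_assoc] at h1
      exact mul_right_cancel₀ (pow_ne_zero _ hevh) h1
    refine ⟨φ, fun γ hγ => ⟨hφg.2 γ hγ, ?_⟩, hφg.1, ?_⟩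
    · rw [hrel (i γ) (C (C γ)) (by simp [E, evalXY_def])]
      simp [ev, evalXY_def]
    · rw [hrel x (C X) (by simp [E, evalXY_def])]
      simp [ev, evalXY_def]
  choose φ hφ1 hφ2 hφ3 using hgood
  refine ⟨good.attach.image fun a => φ a.1 a.2, ?_, ?_⟩
  · rw [Finset.card_image_of_injective _ fun a a' haa => by
      refine Subtype.ext (mul_right_cancel₀ (hφ2 a.1 a.2) ?_)
      rw [← hφ3 a.1 a.2]
      rw [haa, hφ3 a'.1 a'.2], Finset.card_attach]
    have h1 : (S.card : ℝ) ≤ good.card + (h₁.natDegree + v.natDegree) := by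
      have e1 : bad.card ≤ h₁.natDegree + v.natDegree :=
        (Finset.card_union_le _ _).trans (Nat.add_le_add
          ((Multiset.toFinset_card_le _).trans ((card_roots' _).trans natDegree_map_le))
          ((Multiset.toFinset_card_le _).trans ((card_roots' _).trans natDegree_map_le)))
      have e3 : (S.filter fun a => a ∈ bad).card ≤ bad.card :=
        Finset.card_le_card fun a ha => (Finset.mem_filter.1 ha).2
      have e4 := Finset.card_filter_add_card_filter_not (s := S) (fun a => a ∈ bad)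
      have : S.card ≤ good.card + (h₁.natDegree + v.natDegree) := by simp only [good]; omega
      exact_mod_cast this
    have hQ' : 16 * Gg ^ 2 + 4 * Cc ≤ (Nat.card κ : ℝ) :=
      (Nat.le_ceil _).trans (by exact_mod_cast hQ.le)
    have hGg : 0 ≤ Gg := by simp only [Gg]; positivity
    have hCc : 0 ≤ Cc := by simp only [Cc]; positivity
    have hn' : (0 : ℝ) < n := by exact_mod_cast hn
    have hs0 := Real.sqrt_nonneg (Nat.card κ : ℝ)
    have hs : Gg * Real.sqrt (Nat.card κ) ≤ (Nat.card κ : ℝ) / 4 := by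
      have hsq := Real.sq_sqrt (show (0 : ℝ) ≤ Nat.card κ by positivity)
      have : 4 * Gg ≤ Real.sqrt (Nat.card κ) := by
        rw [← Real.sqrt_sq (show (0 : ℝ) ≤ 4 * Gg by positivity)]
        exact Real.sqrt_le_sqrt (by nlinarith)
      nlinarith
    rw [div_mul_eq_mul_div, one_mul, div_le_iff₀ (by positivity)]
    have h3 : (Nat.card κ : ℝ) / 4 ≥ Cc := by nlinarith
    simp only [Gg] at hs
    simp only [Cc] at h3
    nlinarith
  · intro ψ' hψ' β
    obtain ⟨a, -, rfl⟩ := Finset.mem_image.1 hψ'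
    exact hND β κ (φ a.1 a.2) ψ (hφ1 a.1 a.2)

end Groth.Agent.AbscLB
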