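import Mathlib
import Groth.Agent.AbscLB.Family
import Groth.Agent.ZetaPts.Alg

/-!
# Sums of norms over maximal ideals
-/

set_option autoImplicit false
set_option maxHeartbeats 800000

universe u

namespace Groth.Agent.AbscLB

open scoped ENNReal

/-- The norm of a maximal ideal. -/
noncomputable def nrm {A : Type u} [CommRing A] (m : MaximalSpectrum A) : ℕ := Nat.card (A ⧸ m.asIdeal)

/-- The sum of `N(m) ^ (-σ)`. -/
noncomputable def normSum (A : Type u) [CommRing A] (σ : ℝ) : ℝ≥0∞ :=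
  ∑' m : MaximalSpectrum A, ENNReal.ofReal ((nrm m : ℝ) ^ (-σ))

theorem surjective_of_frac {B C κ : Type u} [CommRing B] [CommRing C] [Field κ] [Finite κ] (φ : C →+* κ)
    (ψ : B →+* κ) (hψ : Function.Surjective ψ)
    (h : ∀ β, ∃ n d, φ d ≠ 0 ∧ φ n = ψ β * φ d) : Function.Surjective φ := by
  classical
  let _ := Fintype.ofFinite κ
  intro z
  obtain ⟨β, rfl⟩ := hψ z
  obtain ⟨n, d, hd, hn⟩ := h β
  refine ⟨n * d ^ (Fintype.card κ - 2), ?_⟩
  rw [map_mul, map_pow, hn, mul_assoc, ← pow_succ', show Fintype.card κ - 2 + 1 = Fintype.card κ - 1 by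
    have := Fintype.one_lt_card (α := κ); omega, FiniteField.pow_card_sub_one_eq_one _ hd, mul_one]

/-- The kernel of a surjection to a finite field. -/
noncomputable def kerMax {C κ : Type u} [CommRing C] [Field κ] (φ : C →+* κ) (hφ : Function.Surjective φ) :
    MaximalSpectrum C := ⟨RingHom.ker φ, RingHom.ker_isMaximal_of_surjective φ hφ⟩

theorem nrm_kerMax {C κ : Type u} [CommRing C] [Field κ] (φ : C →+* κ) (hφ : Function.Surjective φ) :
    nrm (kerMax φ hφ) = Nat.card κ :=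
  Nat.card_congr (RingHom.quotientKerEquivOfSurjective hφ).toEquiv

theorem finite_homs {B κ : Type u} [CommRing B] [Algebra.FiniteType ℤ B] [CommRing κ] [Finite κ] :
    Finite (B →+* κ) := by
  obtain ⟨s, hs⟩ := Algebra.FiniteType.out (R := ℤ) (A := B)
  refine Finite.of_injective (fun (φ : B →+* κ) (x : s) => φ x.1) fun φ ψ h => ?_
  have : φ.toIntAlgHom = ψ.toIntAlgHom := AlgHom.ext_of_adjoin_eq_top hs fun x hx => congrFun h ⟨x, hx⟩
  exact RingHom.ext fun x => AlgHom.congr_fun this x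

theorem finite_setOf_nrm_eq (B : Type u) [CommRing B] [Algebra.FiniteType ℤ B] (q : ℕ) :
    {m : MaximalSpectrum B | nrm m = q}.Finite := by
  classical
  rcases Set.eq_empty_or_nonempty {m : MaximalSpectrum B | nrm m = q} with h | ⟨m₀, hm₀⟩
  · rw [h]; exact Set.finite_empty
  have := m₀.isMaximal
  let _ := Ideal.Quotient.field m₀.asIdeal
  have := ZetaPts.finite_residue_of_isMaximal m₀.asIdeal
  let _ := Fintype.ofFinite (B ⧸ m₀.asIdeal)
  have := finite_homs (B := B) (κ := B ⧸ m₀.asIdeal)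
  refine Set.Finite.subset (Set.finite_range fun φ : {φ : B →+* B ⧸ m₀.asIdeal // Function.Surjective φ} =>
    kerMax φ.1 φ.2) fun m hm => ?_
  have := m.isMaximal
  let _ := Ideal.Quotient.field m.asIdeal
  have := ZetaPts.finite_residue_of_isMaximal m.asIdeal
  let _ := Fintype.ofFinite (B ⧸ m.asIdeal)
  let e : B ⧸ m.asIdeal ≃+* B ⧸ m₀.asIdeal := FiniteField.ringEquivOfCardEq (by
    rw [Fintype.card_eq_nat_card, Fintype.card_eq_nat_card]; exact hm.trans hm₀.symm)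
  refine ⟨⟨e.toRingHom.comp (Ideal.Quotient.mk _), e.surjective.comp Ideal.Quotient.mk_surjective⟩,
    MaximalSpectrum.ext (Ideal.ext fun z => ?_)⟩
  show e (Ideal.Quotient.mk _ z) = 0 ↔ _
  rw [map_eq_zero_iff _ e.injective, Ideal.Quotient.eq_zero_iff_mem]

theorem finite_setOf_nrm_le (B : Type u) [CommRing B] [Algebra.FiniteType ℤ B] (Q : ℕ) :
    {m : MaximalSpectrum B | nrm m ≤ Q}.Finite :=
  ((Finset.range (Q + 1)).finite_toSet.biUnion fun q _ => finite_setOf_nrm_eq B q).subset fun m hm =>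
    Set.mem_biUnion (Finset.mem_coe.2 (Finset.mem_range.2 (Nat.lt_succ_iff.2 hm))) rfl

/-- Removing finitely many maximal ideals keeps an infinite sum infinite. -/
theorem tsum_eq_top_of_large (B : Type u) [CommRing B] [Algebra.FiniteType ℤ B] (s : Set (MaximalSpectrum B))
    (Q : ℕ) (σ : ℝ) (h : ∑' m : s, ENNReal.ofReal ((nrm m.1 : ℝ) ^ (-σ)) = ⊤) :
    ∑' m : {m : MaximalSpectrum B | m ∈ s ∧ Q < nrm m}, ENNReal.ofReal ((nrm m.1 : ℝ) ^ (-σ)) = ⊤ := by
  classical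
  let f : MaximalSpectrum B → ℝ≥0∞ := fun m => ENNReal.ofReal ((nrm m : ℝ) ^ (-σ))
  change ∑' m : s, f m = ⊤ at h
  change ∑' m : {m : MaximalSpectrum B | m ∈ s ∧ Q < nrm m}, f m = ⊤
  have hle : ∑' m : s, f m ≤ ∑' m : ({m : MaximalSpectrum B | m ∈ s ∧ Q < nrm m} ∪ {m | nrm m ≤ Q} : Set _), f m :=
    ENNReal.tsum_mono_subtype f fun m hm => (le_or_gt (nrm m) Q).elim Or.inr fun h' => Or.inl ⟨hm, h'⟩
  rw [h, top_le_iff] at hle
  by_contra hne
  refine ENNReal.add_ne_top.2 ⟨hne, ?_⟩ (top_le_iff.1 (hle.symm.le.trans (ENNReal.tsum_union_le f _ _)))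
  let _ : Fintype ({m : MaximalSpectrum B | nrm m ≤ Q} : Set _) := (finite_setOf_nrm_le B Q).fintype
  rw [tsum_fintype]
  exact ENNReal.sum_ne_top.2 fun m _ => ENNReal.ofReal_ne_top

/-- The points of a family inject into the maximal ideals. -/
theorem normSum_ge_family {C₀ B : Type u} [CommRing C₀] [CommRing B] [Algebra.FiniteType ℤ B] {b : B} {c : ℝ}
    {Q₀ : ℕ} (hc : 0 < c) (hF : PointFamily C₀ B b c Q₀) (σ : ℝ) :
    ENNReal.ofReal c * ∑' m : {m : MaximalSpectrum B | b ∉ m.asIdeal ∧ Q₀ < nrm m},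
      ENNReal.ofReal ((nrm m.1 : ℝ) ^ (-(σ - 1))) ≤ normSum C₀ σ := by
  classical
  obtain ⟨nd, hnd⟩ := hF.num_den
  let M := {m : MaximalSpectrum B | b ∉ m.asIdeal ∧ Q₀ < nrm m}
  have key : ∀ m : M, ∃ s : Finset (MaximalSpectrum C₀), c * (nrm m.1 : ℝ) ≤ s.card ∧
      (∀ n ∈ s, nrm n = nrm m.1) ∧
      ∀ n ∈ s, ∀ β, (nd β).2 ∉ n.asIdeal ∧ (β ∈ m.1.asIdeal ↔ (nd β).1 ∈ n.asIdeal) := by
    intro m
    have := m.1.isMaximal
    let _ := Ideal.Quotient.field m.1.asIdeal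
    have := ZetaPts.finite_residue_of_isMaximal m.1.asIdeal
    let ψ := Ideal.Quotient.mk m.1.asIdeal
    obtain ⟨S, hS, hφ⟩ := hnd _ ψ (fun h => m.2.1 (Ideal.Quotient.eq_zero_iff_mem.1 h)) m.2.2
    have hsurj : ∀ φ ∈ S, Function.Surjective φ := fun φ hφS =>
      surjective_of_frac φ ψ Ideal.Quotient.mk_surjective fun β => ⟨_, _, hφ φ hφS β⟩
    refine ⟨S.attach.image fun φ => kerMax φ.1 (hsurj _ φ.2), ?_, ?_, ?_⟩
    · rw [Finset.card_image_of_injective _ ?_, Finset.card_attach]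
      · exact hS
      · intro φ₁ φ₂ h
        have hk : ∀ z, φ₁.1 z = 0 ↔ φ₂.1 z = 0 := fun z => by
          have h' := congrArg (fun n : MaximalSpectrum C₀ => z ∈ n.asIdeal) h
          exact Eq.to_iff h'
        refine Subtype.ext (RingHom.ext fun z => ?_)
        obtain ⟨β, hβ⟩ := Ideal.Quotient.mk_surjective (φ₁.1 z)
        obtain ⟨hd₁, hn₁⟩ := hφ _ φ₁.2 β
        obtain ⟨hd₂, hn₂⟩ := hφ _ φ₂.2 β
        have h0 : φ₂.1 (z * (nd β).2 - (nd β).1) = 0 :=
          (hk _).1 (by rw [map_sub, map_mul, hn₁, ← hβ, sub_self])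
        rw [map_sub, map_mul, hn₂, sub_eq_zero] at h0
        rw [← hβ]
        exact (mul_right_cancel₀ hd₂ h0).symm
    · intro n hn
      obtain ⟨φ, -, rfl⟩ := Finset.mem_image.1 hn
      exact nrm_kerMax _ _
    · intro n hn β
      obtain ⟨φ, -, rfl⟩ := Finset.mem_image.1 hn
      obtain ⟨hd, hn'⟩ := hφ _ φ.2 β
      refine ⟨hd, ?_⟩
      show _ ↔ φ.1 (nd β).1 = 0
      rw [hn', mul_eq_zero, or_iff_left hd, Ideal.Quotient.eq_zero_iff_mem]
  choose s hcard hnrm hmem using key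
  let g : (Σ m : M, {n // n ∈ s m}) → MaximalSpectrum C₀ := fun z => z.2.1
  have hg : Function.Injective g := by
    rintro ⟨m₁, n₁, h₁⟩ ⟨m₂, n₂, h₂⟩ h
    obtain rfl : n₁ = n₂ := h
    obtain rfl : m₁ = m₂ := Subtype.ext (MaximalSpectrum.ext (Ideal.ext fun β =>
      ((hmem m₁ n₁ h₁ β).2).trans ((hmem m₂ n₁ h₂ β).2).symm))
    rfl
  calc ENNReal.ofReal c * ∑' m : M, ENNReal.ofReal ((nrm m.1 : ℝ) ^ (-(σ - 1)))
      = ∑' m : M, ENNReal.ofReal (c * (nrm m.1 : ℝ) ^ (-(σ - 1))) := by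
        rw [← ENNReal.tsum_mul_left]
        exact tsum_congr fun m => (ENNReal.ofReal_mul hc.le).symm
    _ ≤ ∑' m : M, ∑' n : {n // n ∈ s m}, ENNReal.ofReal ((nrm n.1 : ℝ) ^ (-σ)) := by
        refine ENNReal.tsum_le_tsum fun m => ?_
        rw [tsum_fintype, Finset.univ_eq_attach, Finset.sum_congr rfl (fun (n : {n // n ∈ s m}) _ => by
          rw [hnrm m n.1 n.2]), Finset.sum_const, Finset.card_attach, nsmul_eq_mul,
          ← ENNReal.ofReal_natCast, ← ENNReal.ofReal_mul (Nat.cast_nonneg _)]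
        refine ENNReal.ofReal_le_ofReal ?_
        have hpos : (0 : ℝ) < nrm m.1 := by exact_mod_cast (Nat.zero_le Q₀).trans_lt m.2.2
        rw [show -(σ - 1) = 1 + -σ by ring, Real.rpow_add hpos, Real.rpow_one, ← mul_assoc]
        exact mul_le_mul_of_nonneg_right (hcard m) (Real.rpow_nonneg hpos.le _)
    _ = ∑' z : (Σ m : M, {n // n ∈ s m}), ENNReal.ofReal ((nrm (g z) : ℝ) ^ (-σ)) :=
        (ENNReal.tsum_sigma' (fun z : (Σ m : M, {n // n ∈ s m}) => ENNReal.ofReal ((nrm (g z) : ℝ) ^ (-σ)))).symm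
    _ ≤ normSum C₀ σ := ENNReal.tsum_comp_le_tsum_of_injective hg _

/-- A family over a base with divergent sums gives divergent sums one degree higher. -/
theorem normSum_eq_top_of_family {C₀ B : Type u} [CommRing C₀] [CommRing B] [Algebra.FiniteType ℤ B] {b : B}
    {c : ℝ} {Q₀ : ℕ} (hc : 0 < c) (hF : PointFamily C₀ B b c Q₀) (σ : ℝ)
    (h : ∑' m : {m : MaximalSpectrum B | b ∉ m.asIdeal}, ENNReal.ofReal ((nrm m.1 : ℝ) ^ (-(σ - 1))) = ⊤) :
    normSum C₀ σ = ⊤ := by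
  have h' := tsum_eq_top_of_large B {m | b ∉ m.asIdeal} Q₀ (σ - 1) h
  have hle := normSum_ge_family hc hF σ
  simp only [Set.mem_ofPred_eq] at h'
  rw [h', ENNReal.mul_top (by simpa using hc), top_le_iff] at hle
  exact hle

end Groth.Agent.AbscLB
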