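import Mathlib
import Groth.Agent.AbscLB.Sums

/-!
# Raising the transcendence degree
-/

set_option autoImplicit false
set_option maxHeartbeats 1600000

universe u v

namespace Groth.Agent.AbscLB

open scoped ENNReal IntermediateField

variable (k : Type v) [Field k]

/-- Every element of the prime field is a fraction of integers. -/
def IsPrimeField : Prop := ∀ c : k, ∃ M z : ℤ, (M : k) ≠ 0 ∧ (M : k) * c = z

/-- A finitely generated subring filling the transcendence degree `N` of the ambient field. -/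
def HasRank {Om : Type u} [Field Om] [Algebra k Om] (C : Subalgebra ℤ Om) (N : ℕ) : Prop :=
  C.FG ∧ Algebra.trdeg k Om ≤ N ∧ ∃ t : Fin N → C, AlgebraicIndependent k fun i => (t i : Om)

/-- Divergence for all rings of rank `N` below `N + e`. -/
def Diverges (N : ℕ) (e : ℝ) : Prop :=
  ∀ (Om : Type u) [Field Om] [Algebra k Om] (C : Subalgebra ℤ Om), HasRank k C N →
    ∀ σ : ℝ, σ < N + e → normSum C σ = ⊤

variable {k}

theorem exists_mul_mem {Om : Type u} [Field Om] [Algebra k Om] (hk : IsPrimeField k) (C : Subalgebra ℤ Om) {z : Om}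
    (hz : z ∈ Algebra.adjoin k (C : Set Om)) : ∃ a b : Om, a ∈ C ∧ b ∈ C ∧ b ≠ 0 ∧ z * b = a := by
  induction hz using Algebra.adjoin_induction with
  | mem w hw => exact ⟨w, 1, hw, one_mem C, one_ne_zero, mul_one w⟩
  | algebraMap c =>
    obtain ⟨M, w, hM, hMw⟩ := hk c
    refine ⟨(w : Om), (M : Om), intCast_mem C w, intCast_mem C M, ?_, ?_⟩
    · rw [← map_intCast (algebraMap k Om) M]
      exact (map_ne_zero _).2 hM
    · rw [← map_intCast (algebraMap k Om) M, ← map_intCast (algebraMap k Om) w, ← map_mul, mul_comm, hMw]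
  | add u v _ _ hu hv =>
    obtain ⟨a, b, ha, hb, hb0, h⟩ := hu
    obtain ⟨a', b', ha', hb', hb0', h'⟩ := hv
    exact ⟨a * b' + a' * b, b * b', add_mem (mul_mem ha hb') (mul_mem ha' hb), mul_mem hb hb',
      mul_ne_zero hb0 hb0', by rw [← h, ← h']; ring⟩
  | mul u v _ _ hu hv =>
    obtain ⟨a, b, ha, hb, hb0, h⟩ := hu
    obtain ⟨a', b', ha', hb', hb0', h'⟩ := hv
    exact ⟨a * a', b * b', mul_mem ha ha', mul_mem hb hb', mul_ne_zero hb0 hb0', by rw [← h, ← h']; ring⟩

/-- The field generated by the subring. -/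
theorem exists_field {Om : Type u} [Field Om] [Algebra k Om] (hk : IsPrimeField k) (C : Subalgebra ℤ Om) (N : ℕ)
    (hC : HasRank k C N) :
    ∃ (K : Type u) (_ : Field K) (_ : Algebra k K) (_ : Algebra C K), IsFractionRing C K ∧
      Algebra.EssFiniteType k K ∧ Algebra.trdeg k K = N := by
  classical
  obtain ⟨hfg, htr, t, ht⟩ := hC
  let K := IntermediateField.adjoin k (C : Set Om)
  let inc : C →+* K := (C.val.toRingHom).codRestrict K fun c => IntermediateField.subset_adjoin k _ c.2
  let _ : Algebra C K := inc.toAlgebra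
  have : FaithfulSMul C K := (faithfulSMul_iff_algebraMap_injective C K).2
    fun a b h => Subtype.ext (congrArg (fun z : K => (z : Om)) h)
  refine ⟨K, inferInstance, inferInstance, inferInstance, IsFractionRing.of_field C K fun z => ?_, ?_, ?_⟩
  · obtain ⟨r, hr, s, hs, hz⟩ := IntermediateField.mem_adjoin_iff_div.1 z.2
    obtain ⟨a, b, ha, hb, hb0, h⟩ := exists_mul_mem hk C hr
    obtain ⟨a', b', ha', hb', hb0', h'⟩ := exists_mul_mem hk C hs
    refine ⟨⟨a * b', mul_mem ha hb'⟩, ⟨b * a', mul_mem hb ha'⟩, Subtype.ext ?_⟩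
    show (z : Om) = (a * b') / (b * a')
    rw [hz, ← h, ← h']
    rcases eq_or_ne s 0 with hs0 | hs0
    · simp [hs0]
    · field_simp
  · obtain ⟨gs, hgs⟩ := hfg
    refine IntermediateField.essFiniteType_iff.2 ⟨gs, le_antisymm (IntermediateField.adjoin.mono k _ _ ?_) ?_⟩
    · rw [← hgs]; exact Algebra.subset_adjoin
    · refine IntermediateField.adjoin_le_iff.2 ?_
      rw [← hgs]
      intro w hw
      exact Algebra.adjoin_induction (p := fun w _ => w ∈ IntermediateField.adjoin k (gs : Set Om))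
        (fun w hw => IntermediateField.subset_adjoin k _ hw) (fun a => intCast_mem _ a)
        (fun _ _ _ _ => add_mem) (fun _ _ _ _ => mul_mem) hw
  · refine le_antisymm ((trdeg_le_of_injective K.val K.val.toRingHom.injective).trans htr) ?_
    let t' : Fin N → K := fun i => ⟨(t i : Om), IntermediateField.subset_adjoin k _ (t i).2⟩
    have h := (AlgebraicIndependent.of_comp K.val (x := t') ht).lift_cardinalMk_le_trdeg
    simpa using h

theorem adjoin_le_of_mem {L K : Type u} [Field L] [Field K] [Algebra k K] [Algebra L K] [Algebra k L]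
    [IsScalarTower k L K] (x : K) {s : Set K} (hs : s ⊆ (L⟮x⟯ : Set K)) :
    IntermediateField.adjoin k s ≤ (L⟮x⟯).restrictScalars k :=
  IntermediateField.adjoin_le_iff.2 hs

/-- A separating coordinate with its field of constants. -/
theorem exists_constants (N : ℕ) (K : Type u) [Field K] [Algebra k K] [PerfectField k] [Algebra.EssFiniteType k K]
    (htr : Algebra.trdeg k K = (N + 1 : ℕ)) :
    ∃ (L : Type u) (_ : Field L) (_ : Algebra k L) (_ : Algebra L K) (x : K) (t : Fin N → L),
      Transcendental L x ∧ FiniteDimensional L⟮x⟯ K ∧ Algebra.IsSeparable L⟮x⟯ K ∧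
      (∀ c : K, IsSeparable L c → c ∈ Set.range (algebraMap L K)) ∧
      Algebra.trdeg k L ≤ N ∧ AlgebraicIndependent k t := by
  classical
  obtain ⟨s, hs, hsep⟩ := exists_isTranscendenceBasis_and_isSeparable_of_perfectField k K
  have hcard : s.card = N + 1 := by
    have h := hs.cardinalMk_eq_trdeg
    rw [htr, Cardinal.mk_fintype, Fintype.card_coe] at h
    exact_mod_cast h
  let e : Fin (N + 1) ≃ s := (s.equivFinOfCardEq hcard).symm
  let v : Fin (N + 1) → K := fun i => (e i : K)
  have hv : AlgebraicIndependent k v := hs.1.comp e e.injective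
  let x : K := v (Fin.last N)
  let v' : Fin N → K := fun i => v i.castSucc
  let P₀ := IntermediateField.adjoin k (Set.range v')
  let L := separableClosure P₀ K
  have : IsScalarTower k L K := IsScalarTower.of_algebraMap_eq fun _ => rfl
  have hxP : Transcendental P₀ x := by
    have h := hv.transcendental_adjoin (s := Set.range Fin.castSucc) (i := Fin.last N) (by
      rintro ⟨j, hj⟩
      exact (Fin.castSucc_lt_last j).ne hj)
    rw [← Set.range_comp] at h
    exact IntermediateField.transcendental_adjoin_iff.2 h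
  have hx : Transcendental L x := hxP.extendScalars L
  let t : Fin N → L := fun i => algebraMap P₀ L ⟨v' i, IntermediateField.subset_adjoin k _ ⟨i, rfl⟩⟩
  have hle : IntermediateField.adjoin k (s : Set K) ≤ (L⟮x⟯).restrictScalars k := by
    refine adjoin_le_of_mem x fun z hz => ?_
    obtain ⟨j, hj⟩ := e.surjective ⟨z, hz⟩
    have hz' : z = v j := (congrArg Subtype.val hj).symm
    refine Fin.lastCases (motive := fun j => z = v j → z ∈ L⟮x⟯) (fun h => ?_) (fun i h => ?_) j hz'
    · rw [h]; exact IntermediateField.mem_adjoin_simple_self L x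
    · rw [h]
      exact IntermediateField.algebraMap_mem L⟮x⟯ (t i)
  have hsepLx : Algebra.IsSeparable L⟮x⟯ K := by
    let _ : Algebra (IntermediateField.adjoin k (s : Set K)) ((L⟮x⟯).restrictScalars k) :=
      (IntermediateField.inclusion hle).toRingHom.toAlgebra
    have : IsScalarTower (IntermediateField.adjoin k (s : Set K)) ((L⟮x⟯).restrictScalars k) K :=
      IsScalarTower.of_algebraMap_eq fun _ => rfl
    have h : Algebra.IsSeparable ((L⟮x⟯).restrictScalars k) K :=
      Algebra.isSeparable_tower_top_of_isSeparable (IntermediateField.adjoin k (s : Set K)) _ K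
    exact h
  have hfin : FiniteDimensional L⟮x⟯ K := by
    let _ : Algebra k L⟮x⟯ := ((L⟮x⟯).restrictScalars k).algebra'
    have : IsScalarTower k L⟮x⟯ K := IsScalarTower.of_algebraMap_eq fun _ => rfl
    have : Algebra.EssFiniteType L⟮x⟯ K := Algebra.EssFiniteType.of_comp k L⟮x⟯ K
    have : Algebra.IsAlgebraic L⟮x⟯ K := Algebra.IsSeparable.isAlgebraic L⟮x⟯ K
    exact (Algebra.finite_of_essFiniteType_of_isAlgebraic : Module.Finite L⟮x⟯ K)
  refine ⟨L, inferInstance, inferInstance, inferInstance, x, t, hx, hfin, hsepLx, fun c hc => ?_, ?_, ?_⟩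
  · exact ⟨⟨c, mem_separableClosure_iff.2 (IsSeparable.of_algebra_isSeparable_of_isSeparable P₀ hc)⟩, rfl⟩
  · have h1 : Algebra.trdeg k L + Algebra.trdeg L K = ((N + 1 : ℕ) : Cardinal) := by rw [trdeg_add_eq, htr]
    have h2 : (1 : Cardinal) ≤ Algebra.trdeg L K := by
      have h := (algebraicIndependent_unique_type_iff (x := fun _ : PUnit.{u + 1} => x)).2 hx
      simpa using h.cardinalMk_le_trdeg
    have h3 : Algebra.trdeg k L + 1 ≤ ((N : ℕ) : Cardinal) + 1 := by
      rw [← Nat.cast_one, ← Nat.cast_add, ← h1, Nat.cast_one]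
      exact add_le_add le_rfl h2
    exact (Cardinal.add_le_add_iff_of_lt_aleph0 Cardinal.one_lt_aleph0).1 h3
  · exact AlgebraicIndependent.of_comp (IsScalarTower.toAlgHom k L K) (hv.comp _ (Fin.castSucc_injective N))

theorem normSum_restrict {L : Type u} [Field L] (B B' : Subalgebra ℤ L) (b : B) (hBB : B ≤ B')
    (hb0 : (b : L) ≠ 0) (hb : ((b : L))⁻¹ ∈ B') (hgen : ∀ z ∈ B', ∃ (n : ℕ) (a : B), z * (b : L) ^ n = a)
    [Algebra.FiniteType ℤ B'] (σ : ℝ) :
    normSum B' σ ≤ ∑' m : {m : MaximalSpectrum B | b ∉ m.asIdeal}, ENNReal.ofReal ((nrm m.1 : ℝ) ^ (-σ)) := by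
  let i : B →+* B' := (Subalgebra.inclusion hBB).toRingHom
  let ib : B' := ⟨(b : L)⁻¹, hb⟩
  have hib : ib * i b = 1 := Subtype.ext (inv_mul_cancel₀ hb0)
  have key : ∀ m' : MaximalSpectrum B',
      Function.Surjective ((Ideal.Quotient.mk m'.asIdeal).comp i) ∧ Ideal.Quotient.mk m'.asIdeal (i b) ≠ 0 := by
    intro m'
    have := m'.isMaximal
    let _ := Ideal.Quotient.field m'.asIdeal
    have := ZetaPts.finite_residue_of_isMaximal m'.asIdeal
    have hb1 : Ideal.Quotient.mk m'.asIdeal (i b) ≠ 0 := fun h0 => one_ne_zero (α := B' ⧸ m'.asIdeal)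
      (by rw [← map_one (Ideal.Quotient.mk m'.asIdeal), ← hib, map_mul, h0, mul_zero])
    refine ⟨surjective_of_frac ((Ideal.Quotient.mk m'.asIdeal).comp i) (Ideal.Quotient.mk m'.asIdeal)
      Ideal.Quotient.mk_surjective fun z => ?_, hb1⟩
    obtain ⟨n, a, h⟩ := hgen z.1 z.2
    refine ⟨a, b ^ n, by rw [map_pow]; exact pow_ne_zero _ hb1, ?_⟩
    rw [RingHom.comp_apply, RingHom.comp_apply, ← map_mul, map_pow]
    congr 1
    exact Subtype.ext h.symm
  let g : MaximalSpectrum B' → {m : MaximalSpectrum B | b ∉ m.asIdeal} := fun m' =>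
    ⟨⟨m'.asIdeal.comap i, by
      have := m'.isMaximal
      let _ := Ideal.Quotient.field m'.asIdeal
      have h := RingHom.ker_isMaximal_of_surjective _ (key m').1
      rwa [← RingHom.comap_ker, Ideal.mk_ker] at h⟩,
      fun h => (key m').2 (Ideal.Quotient.eq_zero_iff_mem.2 h)⟩
  have hg : Function.Injective g := by
    intro m₁ m₂ h
    refine MaximalSpectrum.ext (Ideal.ext fun z => ?_)
    obtain ⟨n, a, hz⟩ := hgen z.1 z.2
    have he : ∀ m : MaximalSpectrum B', z ∈ m.asIdeal ↔ i a ∈ m.asIdeal := fun m => by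
      have hu : IsUnit (i b ^ n) :=
        IsUnit.pow n (IsUnit.of_mul_eq_one ib (by rw [mul_comm]; exact hib))
      rw [← Ideal.mul_unit_mem_iff_mem _ hu, show z * i b ^ n = i a from Subtype.ext hz]
    rw [he m₁, he m₂]
    have := congrArg (fun m : {m : MaximalSpectrum B | b ∉ m.asIdeal} => a ∈ m.1.asIdeal) h
    exact Eq.to_iff this
  have hn : ∀ m', nrm m' = nrm (g m').1 := fun m' => by
    have h := Nat.card_congr (RingHom.quotientKerEquivOfSurjective (key m').1).toEquiv
    rw [← RingHom.comap_ker, Ideal.mk_ker] at h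
    exact h.symm
  refine le_trans (le_of_eq ?_) (ENNReal.tsum_comp_le_tsum_of_injective hg _)
  exact tsum_congr fun m' => by rw [hn]

/-- The inductive step. -/
theorem diverges_succ [PerfectField k] (hk : IsPrimeField k) (N : ℕ) (e : ℝ) (ih : Diverges.{u} k N e) :
    Diverges.{u} k (N + 1) e := by
  classical
  intro Om _ _ C hC σ hσ
  obtain ⟨K, _, _, _, hfrac, hess, htr⟩ := exists_field hk C (N + 1) hC
  have : Algebra.FiniteType ℤ C := (Subalgebra.fg_iff_finiteType C).1 hC.1
  obtain ⟨L, _, _, _, x, t, hx, _, _, hclosed, htrL, ht⟩ := exists_constants N K htr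
  obtain ⟨B, b, c, Q₀, hBfg, hTB, hb, hc, hF⟩ :=
    exists_pointFamily (C₀ := C) x hx hclosed (Finset.univ.image t)
  have : Algebra.FiniteType ℤ B := (Subalgebra.fg_iff_finiteType B).1 hBfg
  refine normSum_eq_top_of_family hc hF σ ?_
  obtain ⟨gs, hgs⟩ := id hBfg
  have hb0 : (b : L) ≠ 0 := fun h => hb (Subtype.ext h)
  let B' := Algebra.adjoin ℤ (insert ((b : L))⁻¹ (gs : Set L))
  have hBB : B ≤ B' := hgs ▸ Algebra.adjoin_mono (Set.subset_insert _ _)
  have : Algebra.FiniteType ℤ B' :=
    (Subalgebra.fg_iff_finiteType _).1 ⟨insert ((b : L))⁻¹ gs, by rw [Finset.coe_insert]⟩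
  have hgen : ∀ z ∈ B', ∃ (n : ℕ) (a : B), z * (b : L) ^ n = a := by
    intro z hz
    induction hz using Algebra.adjoin_induction with
    | mem w hw =>
      rcases hw with rfl | hw
      · exact ⟨1, 1, by rw [pow_one, inv_mul_cancel₀ hb0]; rfl⟩
      · exact ⟨0, ⟨w, hgs ▸ Algebra.subset_adjoin hw⟩, by rw [pow_zero, mul_one]⟩
    | algebraMap a => exact ⟨0, algebraMap ℤ B a, by rw [pow_zero, mul_one]; rfl⟩
    | add u v _ _ hu hv =>
      obtain ⟨n, a, h⟩ := hu
      obtain ⟨m, a', h'⟩ := hv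
      refine ⟨n + m, a * b ^ m + a' * b ^ n, ?_⟩
      push_cast
      rw [← h, ← h', pow_add]; ring
    | mul u v _ _ hu hv =>
      obtain ⟨n, a, h⟩ := hu
      obtain ⟨m, a', h'⟩ := hv
      refine ⟨n + m, a * a', ?_⟩
      push_cast
      rw [← h, ← h', pow_add]; ring
  have hB' : HasRank k B' N := by
    refine ⟨⟨insert ((b : L))⁻¹ gs, by rw [Finset.coe_insert]⟩, htrL,
      fun i => ⟨t i, hBB (hTB (Finset.mem_coe.2 (Finset.mem_image_of_mem t (Finset.mem_univ i))))⟩, ht⟩
  have h := ih L B' hB' (σ - 1) (by push_cast at hσ; linarith)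
  exact top_le_iff.1 (h ▸ normSum_restrict B B' b hBB hb0 (Algebra.subset_adjoin (Set.mem_insert _ _)) hgen (σ - 1))

end Groth.Agent.AbscLB
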