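import Mathlib
import Groth.Agent.AbscLB.Induct
import Groth.Agent.ZetaPts.Euler

/-!
# The base cases
-/

set_option autoImplicit false
set_option maxHeartbeats 1600000

universe u

namespace Groth.Agent.AbscLB

open scoped ENNReal IntermediateField NumberField
open IsDedekindDomain Filter Topology

theorem isPrimeField_rat : IsPrimeField ℚ := fun c =>
  ⟨c.den, c.num, by simp [c.den_ne_zero], by push_cast; exact (mul_comm _ _).trans (Rat.mul_den_eq_num c)⟩

theorem isPrimeField_zmod (p : ℕ) [Fact p.Prime] : IsPrimeField (ZMod p) := fun c => by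
  obtain ⟨z, hz⟩ := ZMod.intCast_surjective c
  exact ⟨1, z, by simp, by simp [hz]⟩

section NumberField

variable (K : Type u) [Field K] [NumberField K]

theorem exists_factor (I : Ideal (𝓞 K)) (hI : I ≠ ⊥) :
    ∃ α : HeightOneSpectrum (𝓞 K) →₀ ℕ, α.prod (fun P n => P.asIdeal ^ n) = I := by
  classical
  revert hI
  refine UniqueFactorizationMonoid.induction_on_prime I (fun h => absurd Ideal.zero_eq_bot h)
    (fun J hJ _ => ⟨0, by rw [Finsupp.prod_zero_index, Ideal.isUnit_iff.1 hJ, Ideal.one_eq_top]⟩)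
    (fun J P hJ hP ih _ => ?_)
  obtain ⟨α, hα⟩ := ih hJ
  refine ⟨Finsupp.single ⟨P, Ideal.isPrime_of_prime hP, hP.ne_zero⟩ 1 + α, ?_⟩
  rw [Finsupp.prod_add_index' (fun _ => pow_zero _) (fun _ _ _ => pow_add _ _ _),
    hα, Finsupp.prod_single_index (by exact pow_zero _)]
  simp only [pow_one]

theorem two_le_absNorm (P : HeightOneSpectrum (𝓞 K)) : 2 ≤ Ideal.absNorm P.asIdeal := by
  have h0 : Ideal.absNorm P.asIdeal ≠ 0 := by
    rw [Ne, Ideal.absNorm_eq_zero_iff]; exact P.ne_bot
  have h1 : Ideal.absNorm P.asIdeal ≠ 1 := by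
    rw [Ne, Ideal.absNorm_eq_one_iff]; exact P.isPrime.ne_top
  omega

/-- The sum over the primes of a number field diverges below `1`. -/
theorem tsum_primes_eq_top (σ : ℝ) (hσ : σ < 1) :
    ∑' P : HeightOneSpectrum (𝓞 K), ENNReal.ofReal ((Ideal.absNorm P.asIdeal : ℝ) ^ (-σ)) = ⊤ := by
  classical
  by_contra hne
  let a : HeightOneSpectrum (𝓞 K) → ℝ := fun P => ((Ideal.absNorm P.asIdeal : ℝ))⁻¹
  have h1 : ∀ P : HeightOneSpectrum (𝓞 K), (1 : ℝ) < Ideal.absNorm P.asIdeal := fun P => by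
    exact_mod_cast two_le_absNorm K P
  have hsum : Summable fun P : HeightOneSpectrum (𝓞 K) => (Ideal.absNorm P.asIdeal : ℝ) ^ (-σ) :=
    (ENNReal.summable_toReal hne).congr fun P => ENNReal.toReal_ofReal (Real.rpow_nonneg (Nat.cast_nonneg _) _)
  have ha : Summable a := Summable.of_nonneg_of_le (fun P => inv_nonneg.2 (Nat.cast_nonneg _)) (fun P => by
    show ((Ideal.absNorm P.asIdeal : ℝ))⁻¹ ≤ _
    rw [← Real.rpow_neg_one]
    exact Real.rpow_le_rpow_of_exponent_le (h1 P).le (by linarith)) hsum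
  have hmon := ZetaPts.summable_mon_real a (fun P => inv_nonneg.2 (Nat.cast_nonneg _))
    (fun P => inv_lt_one_of_one_lt₀ (h1 P)) ha
  choose g hg using fun I : {I : Ideal (𝓞 K) // I ≠ ⊥} => exists_factor K I.1 I.2
  have hginj : Function.Injective g := fun I J h => Subtype.ext (by rw [← hg I, ← hg J, h])
  let N : {I : Ideal (𝓞 K) // I ≠ ⊥} → ℕ := fun I => Ideal.absNorm I.1
  have hN : ∀ I, ZetaPts.mon a (g I) = ((N I : ℕ) : ℝ)⁻¹ := by
    intro I
    show _ = ((Ideal.absNorm I.1 : ℕ) : ℝ)⁻¹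
    conv_rhs => rw [← hg I]
    rw [ZetaPts.mon, Finsupp.prod, Finsupp.prod, map_prod, Nat.cast_prod, ← Finset.prod_inv_distrib]
    exact Finset.prod_congr rfl fun P _ => by rw [map_pow, Nat.cast_pow, inv_pow]
  have hI : Summable fun I => ((N I : ℕ) : ℝ)⁻¹ := (hmon.comp_injective hginj).congr hN
  have hS := ((summable_sigma_of_nonneg (f := fun z : Σ n, {I // N I = n} => ((N z.2.1 : ℕ) : ℝ)⁻¹)
    fun z => inv_nonneg.2 (Nat.cast_nonneg _)).1 ((Equiv.sigmaFiberEquiv N).summable_iff.2 hI)).2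
  let A : ℕ → ℂ := fun n => (Nat.card {I : Ideal (𝓞 K) // Ideal.absNorm I = n} : ℂ)
  have hA : LSeriesSummable A ((1 : ℝ) : ℂ) := by
    refine Summable.of_norm_bounded hS fun n => ?_
    rcases eq_or_ne n 0 with rfl | hn
    · rw [LSeries.term_zero, norm_zero]
      exact tsum_nonneg fun z => inv_nonneg.2 (Nat.cast_nonneg _)
    rw [LSeries.norm_term_eq, if_neg hn, Complex.norm_natCast, Complex.ofReal_re, Real.rpow_one]
    let e : {I // N I = n} ≃ {I : Ideal (𝓞 K) // Ideal.absNorm I = n} :=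
      { toFun := fun I => ⟨I.1.1, I.2⟩
        invFun := fun I => ⟨⟨I.1, fun h => hn (I.2.symm.trans (by rw [h, Ideal.absNorm_bot]))⟩, I.2⟩
        left_inv := fun I => rfl
        right_inv := fun I => rfl }
    have : Finite {I : Ideal (𝓞 K) // Ideal.absNorm I = n} :=
      (Ideal.finite_setOfPred_absNorm_eq (S := 𝓞 K) n).to_subtype
    have : Finite {I // N I = n} := Finite.of_equiv _ e.symm
    let _ := Fintype.ofFinite {I // N I = n}
    refine le_of_eq ?_
    rw [← Nat.card_congr e, tsum_fintype, Finset.sum_congr rfl (g := fun _ => ((n : ℕ) : ℝ)⁻¹)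
      (fun z _ => by
        show ((N z.1 : ℕ) : ℝ)⁻¹ = _
        rw [z.2]), Finset.sum_const, Finset.card_univ, ← Nat.card_eq_fintype_card,
      nsmul_eq_mul, div_eq_mul_inv]
  let M : ℝ := ∑' n, ‖LSeries.term A ((1 : ℝ) : ℂ) n‖
  have hb : ∀ s : ℝ, 1 < s → ‖((s : ℂ) - 1) * NumberField.dedekindZeta K s‖ ≤ (s - 1) * M := by
    intro s hs
    have h0 : (s : ℂ) - 1 = ((s - 1 : ℝ) : ℂ) := by push_cast; rfl
    rw [norm_mul, h0, Complex.norm_real, Real.norm_eq_abs, abs_of_pos (sub_pos.2 hs)]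
    refine mul_le_mul_of_nonneg_left ?_ (sub_pos.2 hs).le
    have hle : ∀ n, ‖LSeries.term A (s : ℂ) n‖ ≤ ‖LSeries.term A ((1 : ℝ) : ℂ) n‖ := fun n =>
      LSeries.norm_term_le_of_re_le_re A (by simpa using hs.le) n
    have hs' : Summable fun n => ‖LSeries.term A (s : ℂ) n‖ :=
      Summable.of_nonneg_of_le (fun n => norm_nonneg _) hle hA.norm
    exact (norm_tsum_le_tsum_norm hs').trans (hs'.tsum_le_tsum hle hA.norm)
  have hlim := NumberField.tendsto_sub_one_mul_dedekindZeta_nhdsGT K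
  have h0 : Tendsto (fun s : ℝ => ((s : ℂ) - 1) * NumberField.dedekindZeta K s) (𝓝[>] 1) (𝓝 0) := by
    refine squeeze_zero_norm' (a := fun s => (s - 1) * M) ?_ ?_
    · filter_upwards [self_mem_nhdsWithin] with s hs using hb s hs
    · refine tendsto_nhdsWithin_of_tendsto_nhds ?_
      have : Continuous fun s : ℝ => (s - 1) * M := by fun_prop
      simpa using this.tendsto 1
  have h := tendsto_nhds_unique hlim h0
  exact NumberField.dedekindZeta_residue_ne_zero K (Complex.ofReal_eq_zero.1 h)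

end NumberField

theorem diverges_zero_rat : Diverges.{u} ℚ 0 1 := by
  classical
  intro Om _ _ C hC σ hσ
  obtain ⟨K, _, _, _, hfrac, hess, htr⟩ := exists_field isPrimeField_rat C 0 hC
  have : Algebra.FiniteType ℤ C := (Subalgebra.fg_iff_finiteType C).1 hC.1
  have halg : Algebra.IsAlgebraic ℚ K := trdeg_eq_zero_iff.1 (by rw [htr]; simp)
  have : FiniteDimensional ℚ K := Algebra.finite_of_essFiniteType_of_isAlgebraic
  have : CharZero K := charZero_of_injective_algebraMap (algebraMap ℚ K).injective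
  have hfin : FiniteDimensional ℚ K := ‹_›
  have hK : NumberField K :=
    { to_charZero := ‹_›
      to_finiteDimensional := by
        convert! hfin
        subsingleton }
  have hinjC : Function.Injective (algebraMap C K) := IsFractionRing.injective C K
  have hinjO : Function.Injective (algebraMap (𝓞 K) K) := IsFractionRing.injective (𝓞 K) K
  -- a common denominator for `C`
  obtain ⟨gs, hgs⟩ := Algebra.FiniteType.out (R := ℤ) (A := C)
  obtain ⟨g, hg⟩ := IsLocalization.exist_integer_multiples_of_finset (nonZeroDivisors (𝓞 K))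
    (gs.image (algebraMap C K))
  have hg0 : (g : 𝓞 K) ≠ 0 := nonZeroDivisors.coe_ne_zero g
  let S := Submonoid.powers (g : 𝓞 K)
  have hS : S ≤ nonZeroDivisors (𝓞 K) := powers_le_nonZeroDivisors_of_noZeroDivisors hg0
  let R := Localization.subalgebra K S hS
  have hR : ∀ z : C, algebraMap C K z ∈ R := by
    intro z
    have hz : z ∈ Algebra.adjoin ℤ (gs : Set C) := hgs ▸ Algebra.mem_top
    induction hz using Algebra.adjoin_induction with
    | mem w hw =>
      obtain ⟨a, ha⟩ := hg (algebraMap C K w) (Finset.mem_image_of_mem _ hw)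
      refine ⟨a, g, Submonoid.mem_powers _, ?_⟩
      rw [IsLocalization.eq_mk'_iff_mul_eq, ha, Algebra.smul_def, mul_comm]
    | algebraMap r => simp only [eq_intCast, map_intCast]; exact intCast_mem R r
    | add a b _ _ ha hb => rw [map_add]; exact add_mem ha hb
    | mul a b _ _ ha hb => rw [map_mul]; exact mul_mem ha hb
  -- a common denominator for `𝓞 K`
  obtain ⟨bs, hbs⟩ := (Module.Finite.fg_top (R := ℤ) (M := 𝓞 K))
  obtain ⟨d, hd⟩ := IsLocalization.exist_integer_multiples_of_finset (nonZeroDivisors C)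
    (bs.image (algebraMap (𝓞 K) K))
  have hd0 : algebraMap C K d ≠ 0 := (map_ne_zero_iff _ hinjC).2 (nonZeroDivisors.coe_ne_zero d)
  have hfracO : ∀ β : 𝓞 K, ∃ n : C, algebraMap C K n = algebraMap C K d * algebraMap (𝓞 K) K β := by
    intro β
    have hβ : β ∈ Submodule.span ℤ (bs : Set (𝓞 K)) := hbs ▸ Submodule.mem_top
    induction hβ using Submodule.span_induction with
    | mem w hw =>
      obtain ⟨n, hn⟩ := hd (algebraMap (𝓞 K) K w) (Finset.mem_image_of_mem _ hw)
      exact ⟨n, by rw [hn, Algebra.smul_def]⟩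
    | zero => exact ⟨0, by simp⟩
    | add a b _ _ ha hb =>
      obtain ⟨n, hn⟩ := ha
      obtain ⟨m, hm⟩ := hb
      exact ⟨n + m, by rw [map_add, map_add, mul_add, hn, hm]⟩
    | smul r a _ ha =>
      obtain ⟨n, hn⟩ := ha
      exact ⟨r • n, by rw [map_zsmul, map_zsmul, hn, mul_smul_comm]⟩
  obtain ⟨a, s, ⟨k, rfl⟩, hdg⟩ := hR d
  rw [IsLocalization.eq_mk'_iff_mul_eq] at hdg
  have ha0 : a ≠ 0 := by
    rintro rfl
    rw [map_zero, mul_eq_zero] at hdg
    rcases hdg with h | h
    · exact hd0 h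
    · exact pow_ne_zero k hg0 (hinjO (h.trans (map_zero _).symm))
  -- the good primes
  let good : Set (HeightOneSpectrum (𝓞 K)) := {P | (g : 𝓞 K) * a ∉ P.asIdeal}
  have key : ∀ P : good, ∃ m : MaximalSpectrum C, nrm m = Ideal.absNorm P.1.asIdeal ∧
      ∀ β : 𝓞 K, β ∈ P.1.asIdeal ↔ (hfracO β).choose ∈ m.asIdeal := by
    intro P
    have : P.1.asIdeal.IsMaximal := P.1.isMaximal
    let _ := Ideal.Quotient.field P.1.asIdeal
    have : Finite (𝓞 K ⧸ P.1.asIdeal) := Ideal.finiteQuotientOfFreeOfNeBot _ P.1.ne_bot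
    let ψ := Ideal.Quotient.mk P.1.asIdeal
    have hgP : ψ g ≠ 0 := fun h => P.2 (Ideal.mul_mem_right _ _ (Ideal.Quotient.eq_zero_iff_mem.1 h))
    have haP : ψ a ≠ 0 := fun h => P.2 (Ideal.mul_mem_left _ _ (Ideal.Quotient.eq_zero_iff_mem.1 h))
    have hu : ∀ y : S, IsUnit (ψ y) := fun ⟨y, n, hn⟩ => by
      subst hn
      rw [map_pow]
      exact (pow_ne_zero n hgP).isUnit
    let φR : R →+* 𝓞 K ⧸ P.1.asIdeal := IsLocalization.lift hu
    let φ : C →+* 𝓞 K ⧸ P.1.asIdeal := φR.comp ((algebraMap C K).codRestrict R hR)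
    have hφR : ∀ β, φR (algebraMap (𝓞 K) R β) = ψ β := fun β => IsLocalization.lift_eq hu β
    have hdφ : φ d * ψ ((g : 𝓞 K) ^ k) = ψ a := by
      rw [← hφR, ← hφR, RingHom.comp_apply, ← map_mul]
      exact congrArg φR (Subtype.ext hdg)
    have hd' : φ d ≠ 0 := fun h => haP (by rw [← hdφ, h, zero_mul])
    have hn : ∀ β, φ (hfracO β).choose = ψ β * φ d := by
      intro β
      rw [← hφR, RingHom.comp_apply, RingHom.comp_apply, ← map_mul]
      refine congrArg φR (Subtype.ext ?_)
      show algebraMap C K (hfracO β).choose = algebraMap (𝓞 K) K β * algebraMap C K d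
      rw [(hfracO β).choose_spec, mul_comm]
    have hsurj : Function.Surjective φ :=
      surjective_of_frac φ ψ Ideal.Quotient.mk_surjective fun β => ⟨_, _, hd', hn β⟩
    refine ⟨kerMax φ hsurj, ?_, fun β => ?_⟩
    · rw [nrm_kerMax, Ideal.absNorm_apply]; rfl
    · show _ ↔ φ _ = 0
      rw [hn, mul_eq_zero, or_iff_left hd', Ideal.Quotient.eq_zero_iff_mem]
  choose f hf hmem using key
  have hinj : Function.Injective f := fun P Q h => Subtype.ext (HeightOneSpectrum.ext (Ideal.ext fun β => by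
    rw [hmem P, hmem Q, h]))
  have hbad : (goodᶜ : Set (HeightOneSpectrum (𝓞 K))).Finite := by
    have h0 : Ideal.span {(g : 𝓞 K) * a} ≠ ⊥ := by
      simp [Ideal.span_singleton_eq_bot, hg0, ha0]
    refine (Ideal.finite_factors h0).subset fun P hP => ?_
    exact Ideal.dvd_span_singleton.2 (not_not.1 hP)
  have htop : ∑' P : good, ENNReal.ofReal ((Ideal.absNorm P.1.asIdeal : ℝ) ^ (-σ)) = ⊤ := by
    by_contra hne
    have h := ENNReal.summable.tsum_add_tsum_compl (s := good)
      (f := fun P : HeightOneSpectrum (𝓞 K) => ENNReal.ofReal ((Ideal.absNorm P.asIdeal : ℝ) ^ (-σ)))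
      ENNReal.summable
    rw [tsum_primes_eq_top K σ (by simpa using hσ)] at h
    refine ENNReal.add_ne_top.2 ⟨hne, ?_⟩ h
    let _ : Fintype ↥(goodᶜ) := hbad.fintype
    rw [tsum_fintype]
    exact ENNReal.sum_ne_top.2 fun P _ => ENNReal.ofReal_ne_top
  refine top_le_iff.1 (htop ▸ ?_)
  refine le_trans (le_of_eq ?_) (ENNReal.tsum_comp_le_tsum_of_injective hinj _)
  exact tsum_congr fun P => by rw [hf]

theorem normSum_anti (A : Type u) [CommRing A] [Algebra.FiniteType ℤ A] {σ τ : ℝ} (h : σ ≤ τ) :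
    normSum A τ ≤ normSum A σ :=
  ENNReal.tsum_le_tsum fun m => ENNReal.ofReal_le_ofReal <| by
    have := m.isMaximal
    let _ := Ideal.Quotient.field m.asIdeal
    have := ZetaPts.finite_residue_of_isMaximal m.asIdeal
    exact Real.rpow_le_rpow_of_exponent_le (by exact_mod_cast Nat.one_le_iff_ne_zero.2 Nat.card_pos.ne') (by linarith)

/-- A ring homomorphism of algebras over a prime field is linear. -/
def toZModHom (p : ℕ) {A B : Type u} [CommRing A] [CommRing B] [Algebra (ZMod p) A] [Algebra (ZMod p) B]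
    (f : A →+* B) : A →ₐ[ZMod p] B where
  __ := f
  commutes' r := RingHom.congr_fun
    (Subsingleton.elim (f.comp (algebraMap (ZMod p) A)) (algebraMap (ZMod p) B)) r

/-- Finitely many points in one finite field, counted by their kernels. -/
theorem normSum_ge_of_homs (p : ℕ) [Fact p.Prime] {C κ : Type u} [CommRing C] [Field κ] [Finite κ]
    [Algebra (ZMod p) κ] (S : Finset (C →+* κ)) (σ : ℝ) (hσ : 0 ≤ σ) :
    ENNReal.ofReal ((S.card : ℝ) / Module.finrank (ZMod p) κ * (Nat.card κ : ℝ) ^ (-σ)) ≤ normSum C σ := by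
  classical
  have : CharP κ p := charP_of_injective_algebraMap (algebraMap (ZMod p) κ).injective p
  let m : (C →+* κ) → MaximalSpectrum C := fun φ => ⟨RingHom.ker φ, by
    have := RingHom.ker_isPrime φ
    have : Finite (C ⧸ RingHom.ker φ) := Finite.of_injective _ (RingHom.kerLift_injective φ)
    exact Ideal.Quotient.maximal_of_isField _ (Finite.isField_of_domain _)⟩
  have hle : ∀ n ∈ S.image m, (S.filter fun φ => m φ = n).card ≤ Module.finrank (ZMod p) κ := by
    intro n hn
    obtain ⟨φ₀, -, rfl⟩ := Finset.mem_image.1 hn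
    have : (RingHom.ker φ₀).IsMaximal := (m φ₀).isMaximal
    let _ := Ideal.Quotient.field (RingHom.ker φ₀)
    have : CharP (C ⧸ RingHom.ker φ₀) p :=
      (RingHom.charP_iff _ (RingHom.kerLift_injective φ₀) p).2 ‹_›
    let _ := ZMod.algebra (C ⧸ RingHom.ker φ₀) p
    let l : (C ⧸ RingHom.ker φ₀) →ₐ[ZMod p] κ := toZModHom p (RingHom.kerLift φ₀)
    have hfin : Module.Finite (ZMod p) (C ⧸ RingHom.ker φ₀) :=
      Module.Finite.of_injective l.toLinearMap (RingHom.kerLift_injective φ₀)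
    refine le_trans ?_ ((card_algHom_le_finrank (ZMod p) (C ⧸ RingHom.ker φ₀) κ).trans
      (LinearMap.finrank_le_finrank_of_injective (f := l.toLinearMap) (RingHom.kerLift_injective φ₀)))
    have hk : ∀ φ : {φ // φ ∈ S.filter fun φ => m φ = m φ₀}, ∀ z ∈ RingHom.ker φ₀, φ.1 z = 0 := fun φ z hz => by
      have h : RingHom.ker φ.1 = RingHom.ker φ₀ :=
        congrArg MaximalSpectrum.asIdeal (Finset.mem_filter.1 φ.2).2
      rwa [← h, RingHom.mem_ker] at hz
    let G : {φ // φ ∈ S.filter fun φ => m φ = m φ₀} → ((C ⧸ RingHom.ker φ₀) →ₐ[ZMod p] κ) := fun φ =>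
      toZModHom p (Ideal.Quotient.lift _ φ.1 (hk φ))
    have hG : Function.Injective G := fun φ ψ h => Subtype.ext (RingHom.ext fun z => by
      have := AlgHom.congr_fun h (Ideal.Quotient.mk _ z)
      exact this)
    have h := Nat.card_le_card_of_injective G hG
    rwa [Nat.card_eq_finsetCard] at h
  have hS : S.card ≤ Module.finrank (ZMod p) κ * (S.image m).card := Finset.card_le_mul_card_image S _ hle
  have hn : ∀ φ : C →+* κ, nrm (m φ) ≤ Nat.card κ := fun φ =>
    Nat.card_le_card_of_injective _ (RingHom.kerLift_injective φ)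
  have h1 : ∀ φ : C →+* κ, 0 < nrm (m φ) := fun φ => by
    have : Finite (C ⧸ RingHom.ker φ) := Finite.of_injective _ (RingHom.kerLift_injective φ)
    exact (Nat.card_pos : 0 < Nat.card (C ⧸ RingHom.ker φ))
  have hD : (0 : ℝ) < Module.finrank (ZMod p) κ := by exact_mod_cast Module.finrank_pos
  calc ENNReal.ofReal ((S.card : ℝ) / Module.finrank (ZMod p) κ * (Nat.card κ : ℝ) ^ (-σ))
      ≤ ENNReal.ofReal ((S.image m).card * (Nat.card κ : ℝ) ^ (-σ)) := by
        refine ENNReal.ofReal_le_ofReal (mul_le_mul_of_nonneg_right ?_ (Real.rpow_nonneg (Nat.cast_nonneg _) _))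
        rw [div_le_iff₀ hD, mul_comm]
        exact_mod_cast hS
    _ = ∑ n ∈ S.image m, ENNReal.ofReal ((Nat.card κ : ℝ) ^ (-σ)) := by
        rw [Finset.sum_const, nsmul_eq_mul, ← ENNReal.ofReal_natCast, ← ENNReal.ofReal_mul (Nat.cast_nonneg _)]
    _ ≤ ∑ n ∈ S.image m, ENNReal.ofReal ((nrm n : ℝ) ^ (-σ)) := by
        refine Finset.sum_le_sum fun n hn' => ENNReal.ofReal_le_ofReal ?_
        obtain ⟨φ, -, rfl⟩ := Finset.mem_image.1 hn'
        exact Real.rpow_le_rpow_of_nonpos (by exact_mod_cast h1 φ) (by exact_mod_cast hn φ) (by linarith)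
    _ ≤ normSum C σ := ENNReal.sum_le_tsum _

theorem diverges_one_zmod (p : ℕ) [Fact p.Prime] : Diverges.{u} (ZMod p) 1 0 := by
  classical
  intro Om _ _ C hC σ hσ
  have : Algebra.FiniteType ℤ C := (Subalgebra.fg_iff_finiteType C).1 hC.1
  obtain ⟨K, _, _, _, hfrac, hess, htr⟩ := exists_field (isPrimeField_zmod p) C 1 hC
  obtain ⟨L, _, _, _, x, t, hx, _, _, hclosed, htrL, -⟩ := exists_constants 0 K htr
  obtain ⟨B, b, c, Q₀, hBfg, -, hb, hc, hF⟩ := exists_pointFamily (C₀ := C) x hx hclosed ∅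
  obtain ⟨nd, hnd⟩ := hF.num_den
  have halg : Algebra.IsAlgebraic (ZMod p) L := trdeg_eq_zero_iff.1 (nonpos_iff_eq_zero.1 (by simpa using htrL))
  obtain ⟨gs, hgs⟩ := id hBfg
  have hfinB : Finite B := by
    have hM : Module.Finite (ZMod p) (Algebra.adjoin (ZMod p) (gs : Set L)) :=
      Algebra.finite_adjoin_of_finite_of_isIntegral gs.finite_toSet fun z _ =>
        Algebra.IsIntegral.isIntegral z
    have := Module.finite_of_finite (ZMod p) (M := Algebra.adjoin (ZMod p) (gs : Set L))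
    have hle : ∀ z ∈ B, z ∈ Algebra.adjoin (ZMod p) (gs : Set L) := fun z hz => by
      rw [← hgs] at hz
      exact Algebra.adjoin_induction (p := fun z _ => z ∈ Algebra.adjoin (ZMod p) (gs : Set L))
        (fun z hz => Algebra.subset_adjoin hz) (fun r => intCast_mem _ r) (fun _ _ _ _ => add_mem)
        (fun _ _ _ _ => mul_mem) hz
    exact Finite.of_injective (fun z : B => (⟨z.1, hle z.1 z.2⟩ : Algebra.adjoin (ZMod p) (gs : Set L)))
      fun z w h => Subtype.ext (congrArg (fun v : Algebra.adjoin (ZMod p) (gs : Set L) => (v : L)) h)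
  let _ : Fintype B := Fintype.ofFinite B
  let _ : Field B := Fintype.fieldOfDomain B
  have : CharP L p := charP_of_injective_algebraMap (algebraMap (ZMod p) L).injective p
  have : CharP B p := (RingHom.charP_iff B.val.toRingHom Subtype.val_injective p).2 this
  refine ENNReal.eq_top_of_forall_nnreal_le fun M => ?_
  let σ₀ := max σ 0
  have hσ₀ : σ₀ < 1 := max_lt (by simpa using hσ) one_pos
  let r : ℝ := (p : ℝ) ^ (1 - σ₀)
  have hp1 : (1 : ℝ) < p := by exact_mod_cast (Fact.out : p.Prime).one_lt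
  have hr : 1 < r := Real.one_lt_rpow hp1 (by linarith)
  have hlim := tendsto_pow_const_div_const_pow_of_one_lt 1 hr
  obtain ⟨D₀, hD₀⟩ := eventually_atTop.1 (hlim.eventually (gt_mem_nhds (div_pos hc (show (0 : ℝ) < M + 1 by positivity))))
  let n := D₀ + Q₀ + 1
  have : NeZero n := ⟨Nat.succ_ne_zero _⟩
  let E := FiniteField.Extension B p n
  let κ := ULift.{u} E
  let ψ : B →+* κ := (ULift.ringEquiv : κ ≃+* E).symm.toRingHom.comp (algebraMap B E)
  let _ : Algebra (ZMod p) κ := ULift.algebra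
  let D := Module.finrank (ZMod p) κ
  have hcard : Nat.card κ = p ^ D := by
    rw [Module.natCard_eq_pow_finrank (K := ZMod p), Nat.card_zmod]
  have hnD : n ≤ D := by
    have hpB : p ≤ Nat.card B := by
      have h := Nat.card_le_card_of_injective (ZMod.castHom (dvd_refl p) B) (RingHom.injective _)
      rwa [Nat.card_zmod] at h
    have hκ : Nat.card κ = Nat.card B ^ n :=
      (Nat.card_congr Equiv.ulift).trans (FiniteField.natCard_extension B p n)
    exact (Nat.pow_le_pow_iff_right (Fact.out : p.Prime).one_lt).1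
      ((Nat.pow_le_pow_left hpB n).trans (hκ.symm.trans hcard).le)
  have hQ : Q₀ < Nat.card κ := by
    rw [hcard]
    exact lt_of_lt_of_le (by omega : Q₀ < n) (hnD.trans (Nat.lt_pow_self (Fact.out : p.Prime).one_lt).le)
  obtain ⟨S, hS, -⟩ := hnd κ ψ (fun h => hb (ψ.injective (h.trans (map_zero ψ).symm))) hQ
  refine le_trans ?_ ((normSum_ge_of_homs p S σ₀ (le_max_right _ _)).trans
    (normSum_anti C (le_max_left _ _)))
  rw [← ENNReal.ofReal_coe_nnreal]
  refine ENNReal.ofReal_le_ofReal ?_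
  have hDpos : (0 : ℝ) < D := by exact_mod_cast (Nat.succ_pos _).trans_le hnD
  have hr0 : (0 : ℝ) < r ^ D := pow_pos (one_pos.trans hr) D
  have hDr := hD₀ D (le_trans (by omega) hnD)
  rw [pow_one, div_lt_div_iff₀ hr0 (by positivity)] at hDr
  have hkey : r ^ D = (Nat.card κ : ℝ) * (Nat.card κ : ℝ) ^ (-σ₀) := by
    rw [hcard, Nat.cast_pow, ← Real.rpow_natCast, ← Real.rpow_natCast (p : ℝ) D,
      ← Real.rpow_mul (Nat.cast_nonneg p), ← Real.rpow_mul (Nat.cast_nonneg p), ← Real.rpow_add (one_pos.trans hp1)]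
    congr 1
    ring
  calc (M : ℝ) ≤ c * r ^ D / D := by
        rw [le_div_iff₀ hDpos]; nlinarith
    _ ≤ S.card / D * (Nat.card κ : ℝ) ^ (-σ₀) := by
        rw [hkey, div_mul_eq_mul_div, ← mul_assoc]
        exact div_le_div_of_nonneg_right (mul_le_mul_of_nonneg_right hS (Real.rpow_nonneg (Nat.cast_nonneg _) _)) hDpos.le

end Groth.Agent.AbscLB
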