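import Mathlib
import Groth.Agent.AbscLB.Base
import Groth.Agent.DimFormulaLib.LocalDim

/-!
# Divergence for a finitely generated domain
-/

set_option autoImplicit false
set_option maxHeartbeats 1600000

universe u v

namespace Groth.Agent.AbscLB

open scoped ENNReal

theorem diverges_rat : ∀ N, Diverges.{u} ℚ N 1
  | 0 => diverges_zero_rat
  | N + 1 => diverges_succ isPrimeField_rat N 1 (diverges_rat N)

theorem diverges_zmod (p : ℕ) [Fact p.Prime] : ∀ N, 1 ≤ N → Diverges.{u} (ZMod p) N 0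
  | 0, h => absurd h (by omega)
  | 1, _ => diverges_one_zmod p
  | N + 2, _ => diverges_succ (isPrimeField_zmod p) (N + 1) 0 (diverges_zmod p (N + 1) (by omega))

theorem normSum_congr {A B : Type u} [CommRing A] [CommRing B] (e : A ≃+* B) (σ : ℝ) :
    normSum A σ = normSum B σ := by
  let g : MaximalSpectrum A → MaximalSpectrum B := fun m =>
    ⟨m.asIdeal.comap e.symm, Ideal.comap_isMaximal_of_surjective _ e.symm.surjective⟩
  have hg : Function.Bijective g := by
    refine ⟨fun m n h => MaximalSpectrum.ext (Ideal.comap_injective_of_surjective e.symm e.symm.surjective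
      (congrArg MaximalSpectrum.asIdeal h)), fun n => ⟨⟨n.asIdeal.comap e,
        Ideal.comap_isMaximal_of_surjective _ e.surjective⟩, MaximalSpectrum.ext (Ideal.ext fun z => ?_)⟩⟩
    show e (e.symm z) ∈ n.asIdeal ↔ z ∈ n.asIdeal
    rw [RingEquiv.apply_symm_apply]
  have hn : ∀ m, nrm m = nrm (g m) := fun m => Nat.card_congr
    (Ideal.quotientEquiv m.asIdeal (g m).asIdeal e (Ideal.map_comap_of_equiv e).symm).toEquiv
  exact (tsum_congr fun m => by rw [hn]; rfl).trans ((Equiv.ofBijective g hg).tsum_eq fun n => ENNReal.ofReal ((nrm n : ℝ) ^ (-σ)))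

theorem trdeg_le_restrict (R k Om : Type*) [CommRing R] [Nontrivial R] [Field k] [Field Om] [Algebra R k] [Algebra k Om]
    [Algebra R Om] [IsScalarTower R k Om] [FaithfulSMul R k] : Algebra.trdeg k Om ≤ Algebra.trdeg R Om := by
  obtain ⟨s, hs⟩ := exists_isTranscendenceBasis k Om
  rw [← hs.cardinalMk_eq_trdeg]
  exact (hs.1.restrictScalars (FaithfulSMul.algebraMap_injective R k)).cardinalMk_le_trdeg

/-- Putting a domain inside its fraction field. -/
theorem normSum_eq_top_of_trdeg {k : Type v} [Field k] (R : Type v) [CommRing R] [IsDomain R] {C₀ : Type u}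
    [CommRing C₀] [IsDomain C₀] [Algebra.FiniteType ℤ C₀] [Algebra R C₀] [FaithfulSMul R C₀] [Algebra R k]
    [FaithfulSMul R k] [Algebra.IsAlgebraic R k] {Om : Type u} [Field Om] [Algebra C₀ Om] [IsFractionRing C₀ Om]
    [Algebra R Om] [IsScalarTower R C₀ Om] [Algebra k Om] [IsScalarTower R k Om] (N : ℕ) (hN : Algebra.trdeg R C₀ = N) {e : ℝ}
    (h : Diverges.{u} k N e) (σ : ℝ) (hσ : σ < N + e) : normSum C₀ σ = ⊤ := by
  let f : C₀ →ₐ[ℤ] Om := (algebraMap C₀ Om).toIntAlgHom
  have hf : Function.Injective f := IsFractionRing.injective C₀ Om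
  let C : Subalgebra ℤ Om := f.range
  let e' : C₀ ≃ₐ[ℤ] C := AlgEquiv.ofInjective f hf
  rw [normSum_congr e'.toRingEquiv]
  refine h Om C ⟨?_, ?_, ?_⟩ σ hσ
  · exact (Subalgebra.fg_iff_finiteType C).2 (Algebra.FiniteType.equiv ‹_› e')
  · refine (trdeg_le_restrict R k Om).trans (le_of_eq ?_)
    have : Algebra.IsAlgebraic C₀ Om := (IsFractionRing.comap_isAlgebraic_iff (A := C₀) (K := Om) (C := Om)).2 inferInstance
    rw [← trdeg_add_eq R C₀ (A := Om), trdeg_eq_zero (R := C₀) (A := Om), add_zero, hN]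
  · obtain ⟨s, hs⟩ := exists_isTranscendenceBasis R C₀
    have hc : Cardinal.mk s = N := hs.cardinalMk_eq_trdeg.trans hN
    obtain ⟨es⟩ : Nonempty (Fin N ≃ s) := by
      rw [← Cardinal.lift_mk_eq'.{0, u}, hc]; simp
    have hi : AlgebraicIndependent R fun i => algebraMap C₀ Om (es i).1 :=
      ((hs.1.comp es es.injective).map' (f := IsScalarTower.toAlgHom R C₀ Om) (IsFractionRing.injective C₀ Om))
    exact ⟨fun i => e' (es i).1, hi.extendScalars k⟩

theorem ringKrullDim_le_succ_trdeg (C₀ : Type u) [CommRing C₀] [IsDomain C₀] [Algebra.FiniteType ℤ C₀]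
    [FaithfulSMul ℤ C₀] (N : ℕ) (hN : Algebra.trdeg ℤ C₀ = N) : ringKrullDim C₀ ≤ (N + 1 : ℕ) := by
  let R := (⊥ : Subalgebra ℤ C₀)
  let e : ℤ ≃ₐ[ℤ] R := (Algebra.botEquivOfInjective (FaithfulSMul.algebraMap_injective ℤ C₀)).symm
  have : Algebra.FiniteType R C₀ := Algebra.FiniteType.of_restrictScalars_finiteType ℤ R C₀
  have : IsPrincipalIdealRing R := IsPrincipalIdealRing.of_surjective e.toRingEquiv.toRingHom e.surjective
  have hRN : Algebra.trdeg R C₀ = N := by
    have : Algebra.IsAlgebraic ℤ R := ⟨fun z => by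
      obtain ⟨n, rfl⟩ := e.surjective z
      rw [show e n = algebraMap ℤ R n by rw [← e.commutes n]; rfl]
      exact isAlgebraic_algebraMap _⟩
    rw [← hN, ← trdeg_add_eq ℤ R (A := C₀), trdeg_eq_zero (R := ℤ) (A := R), zero_add]
  have hR : ringKrullDim R ≤ 1 := by
    rw [← ringKrullDim_eq_of_ringEquiv e.toRingEquiv]
    exact Order.KrullDimLE.krullDim_le
  rw [← Ideal.sup_isPrime_height_eq_ringKrullDim]
  refine WithBot.coe_le_coe.2 (iSup₂_le fun q hq => ?_)
  have := hq
  let p : Ideal R := q.under R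
  have : q.LiesOver p := ⟨rfl⟩
  obtain ⟨hq', hp, t', t, e1, e2, -, e4, le, -⟩ := DimFormulaLib.dim_formula' p q
  have ht : t = N := by exact_mod_cast e4.symm.trans hRN
  have hp1 : hp ≤ 1 := by
    have h1 : (p.height : WithBot ℕ∞) ≤ 1 := (Ideal.height_le_ringKrullDim_of_ne_top (Ideal.IsPrime.ne_top inferInstance)).trans hR
    rw [e2] at h1
    exact_mod_cast h1
  rw [e1]
  show (hq' : ℕ∞) ≤ ((N + 1 : ℕ) : ℕ∞)
  exact_mod_cast (show hq' ≤ N + 1 by omega)

/-- The sum over the maximal ideals of a finitely generated domain diverges below its dimension. -/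
theorem normSum_eq_top_of_dim (C₀ : Type u) [CommRing C₀] [IsDomain C₀] [Algebra.FiniteType ℤ C₀] (r : ℕ)
    (hr1 : 1 ≤ r) (hr : (r : WithBot ℕ∞) ≤ ringKrullDim C₀) (σ : ℝ) (hσ : σ < r) : normSum C₀ σ = ⊤ := by
  obtain ⟨p, hp⟩ := CharP.exists C₀
  rcases CharP.char_is_prime_or_zero C₀ p with hpp | rfl
  · have : Fact p.Prime := ⟨hpp⟩
    let _ := ZMod.algebra C₀ p
    have : Algebra.FiniteType (ZMod p) C₀ := Algebra.FiniteType.of_restrictScalars_finiteType ℤ (ZMod p) C₀
    obtain ⟨N, hN⟩ : ∃ N : ℕ, Algebra.trdeg (ZMod p) C₀ = N :=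
      Cardinal.lt_aleph0.1 trdeg_lt_aleph0_of_finiteType
    have hdim : ringKrullDim C₀ = N := by
      let _ : Algebra (ULift.{u} (ZMod p)) C₀ :=
        Algebra.compHom C₀ (ULift.ringEquiv : ULift.{u} (ZMod p) ≃+* ZMod p).toRingHom
      have : @IsScalarTower (ZMod p) (ULift.{u} (ZMod p)) C₀ Algebra.toSMul Algebra.toSMul Algebra.toSMul :=
        IsScalarTower.of_algebraMap_eq' (Subsingleton.elim _ _)
      have : Algebra.FiniteType (ULift.{u} (ZMod p)) C₀ :=
        Algebra.FiniteType.of_restrictScalars_finiteType (ZMod p) _ C₀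
      have : Algebra.IsAlgebraic (ZMod p) (ULift.{u} (ZMod p)) := Algebra.IsAlgebraic.of_finite _ _
      refine DimFormulaLib.ringKrullDim_eq_trdeg (ULift.{u} (ZMod p)) N ?_
      rw [← hN, ← trdeg_add_eq (ZMod p) (ULift.{u} (ZMod p)) (A := C₀),
        trdeg_eq_zero (R := ZMod p) (A := ULift.{u} (ZMod p)), zero_add]
    rw [hdim] at hr
    have hrN : r ≤ N := by exact_mod_cast hr
    refine normSum_eq_top_of_trdeg (k := ZMod p) (Om := FractionRing C₀) (ZMod p) N hN (diverges_zmod p N (hr1.trans hrN)) σ ?_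
    have : (r : ℝ) ≤ N := by exact_mod_cast hrN
    linarith
  · have : CharZero C₀ := CharP.charP_to_charZero C₀
    have : FaithfulSMul ℤ C₀ := (faithfulSMul_iff_algebraMap_injective ℤ C₀).2 Int.cast_injective
    have : CharZero (FractionRing C₀) := charZero_of_injective_algebraMap (IsFractionRing.injective C₀ _)
    obtain ⟨N, hN⟩ : ∃ N : ℕ, Algebra.trdeg ℤ C₀ = N :=
      Cardinal.lt_aleph0.1 trdeg_lt_aleph0_of_finiteType
    have hrN : r ≤ N + 1 := by exact_mod_cast hr.trans (ringKrullDim_le_succ_trdeg C₀ N hN)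
    have : Algebra.IsAlgebraic ℤ ℚ := IsLocalization.isAlgebraic ℚ (nonZeroDivisors ℤ)
    have : IsScalarTower ℤ C₀ (FractionRing C₀) := ⟨fun n a b => by
      rw [Algebra.smul_def, Algebra.smul_def a, zsmul_eq_mul, zsmul_eq_mul, map_mul, map_intCast, mul_assoc]⟩
    have : @IsScalarTower ℤ ℚ (FractionRing C₀) Algebra.toSMul Algebra.toSMul Algebra.toSMul :=
      IsScalarTower.of_algebraMap_eq' (RingHom.ext_int _ _)
    refine normSum_eq_top_of_trdeg (k := ℚ) (Om := FractionRing C₀) ℤ N hN (diverges_rat N) σ ?_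
    have : (r : ℝ) ≤ N + 1 := by exact_mod_cast hrN
    linarith

end Groth.Agent.AbscLB
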