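import Mathlib
import Groth.Agent.AbscLB.Lower
import Groth.Agent.ZetaPts.LSeries

/-!
# The abscissa of convergence is at least the dimension
-/

set_option autoImplicit false
set_option maxHeartbeats 1600000

universe u

open CategoryTheory AlgebraicGeometry Order TopologicalSpace

namespace Groth.Agent.AbscLB

open scoped ENNReal

theorem exists_affine_dim_ge {X : Scheme.{u}} (r : ℕ) (hr : (r : WithBot ℕ∞) ≤ topologicalKrullDim X) :
    ∃ U : X.Opens, IsAffineOpen U ∧ (r : WithBot ℕ∞) ≤ ringKrullDim Γ(X, U) := by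
  obtain ⟨l, hl⟩ := Order.le_krullDim_iff.1 hr
  obtain ⟨x, hx⟩ := l.head.2.nonempty
  obtain ⟨U, hU, hxU, -⟩ := exists_isAffineOpen_mem_and_subset (x := x) (U := (⊤ : X.Opens)) trivial
  refine ⟨U, hU, ?_⟩
  let ι : U → X := Subtype.val
  have hι : Topology.IsOpenEmbedding ι := U.2.isOpenEmbedding_subtypeVal
  let V : {V : IrreducibleCloseds X | (ι ⁻¹' (V : Set X)).Nonempty} := ⟨l.head, ⟨⟨x, hxU⟩, hx⟩⟩
  let Z := (IrreducibleCloseds.orderIsoOfIsOpenEmbedding ι hι).symm V
  have hZ : IrreducibleCloseds.map ι hι.continuous Z = l.head :=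
    congrArg Subtype.val ((IrreducibleCloseds.orderIsoOfIsOpenEmbedding ι hι).apply_symm_apply V)
  have h1 : (r : ℕ∞) ≤ coheight Z := by
    rw [← hι.coheight_map Z, hZ, ← hl]
    exact length_le_coheight_head
  have h2 : ringKrullDim Γ(X, U) = topologicalKrullDim U := by
    rw [← PrimeSpectrum.topologicalKrullDim_eq_ringKrullDim]
    exact (IsHomeomorph.topologicalKrullDim_eq (fun z => hU.isoSpec.hom z)
      hU.isoSpec.hom.homeomorph.isHomeomorph).symm
  rw [h2]
  exact le_trans (WithBot.coe_le_coe.2 h1) (coheight_le_krullDim Z)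

theorem exists_prime_dim_ge {A : Type u} [CommRing A] (r : ℕ) (hr : (r : WithBot ℕ∞) ≤ ringKrullDim A) :
    ∃ P : Ideal A, P.IsPrime ∧ (r : WithBot ℕ∞) ≤ ringKrullDim (A ⧸ P) := by
  obtain ⟨l, hl⟩ := Order.le_krullDim_iff.1 hr
  let P := l.head.asIdeal
  have hle : ∀ i, P ≤ (l i).asIdeal := fun i => l.monotone (Fin.zero_le i)
  let l' : LTSeries (PrimeSpectrum (A ⧸ P)) :=
    { length := l.length
      toFun := fun i => ⟨(l i).asIdeal.map (Ideal.Quotient.mk P),
        Ideal.map_isPrime_of_surjective Ideal.Quotient.mk_surjective (by rw [Ideal.mk_ker]; exact hle i)⟩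
      step := fun i => by
        have h := l.step i
        show (l i.castSucc).asIdeal.map (Ideal.Quotient.mk P) < (l i.succ).asIdeal.map (Ideal.Quotient.mk P)
        refine lt_of_le_of_ne (Ideal.map_mono h.le) fun he => h.ne (PrimeSpectrum.ext ?_)
        have hc : ∀ j, ((l j).asIdeal.map (Ideal.Quotient.mk P)).comap (Ideal.Quotient.mk P) = (l j).asIdeal :=
          fun j => by
            rw [Ideal.comap_map_of_surjective' _ Ideal.Quotient.mk_surjective, Ideal.mk_ker, sup_eq_left]
            exact hle j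
        rw [← hc, ← hc i.succ, he] }
  exact ⟨P, l.head.isPrime, hl ▸ Order.LTSeries.length_le_krullDim l'⟩

/-- The sum over the closed points diverges below the dimension. -/
theorem tsum_closedPoints_eq_top {X : Scheme.{u}} (f : X ⟶ Spec (CommRingCat.of (ULift.{u} ℤ)))
    [LocallyOfFiniteType f] (r : ℕ) (hr1 : 1 ≤ r) (hr : (r : WithBot ℕ∞) ≤ topologicalKrullDim X) (σ : ℝ)
    (hσ : σ < r) :
    ∑' x : {x : X | IsClosed ({x} : Set X)}, ENNReal.ofReal ((ZetaPts.resCard X x.1 : ℝ) ^ (-σ)) = ⊤ := by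
  classical
  obtain ⟨U, hU, hdim⟩ := exists_affine_dim_ge r hr
  obtain ⟨P, hP, hdimP⟩ := exists_prime_dim_ge r hdim
  let A := Γ(X, U)
  have : LocallyOfFiniteType (hU.fromSpec ≫ f) := inferInstance
  have hA : Algebra.FiniteType ℤ A := ZetaPts.finiteType_int_of_hom (hU.fromSpec ≫ f)
  have hq := Algebra.FiniteType.of_surjective (Ideal.Quotient.mkₐ ℤ P) Ideal.Quotient.mk_surjective
  have : @Algebra.FiniteType ℤ (A ⧸ P) _ _ (Ring.toIntAlgebra _) := by
    convert! hq
  have htop := normSum_eq_top_of_dim (A ⧸ P) r hr1 hdimP σ hσ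
  have hZ : IsJacobsonRing (CommRingCat.of (ULift.{u} ℤ)) :=
    isJacobsonRing_of_surjective ⟨(ULift.ringEquiv : ULift.{u} ℤ ≃+* ℤ).symm.toRingHom, RingEquiv.surjective _⟩
  have : JacobsonSpace X := LocallyOfFiniteType.jacobsonSpace f
  let pr : MaximalSpectrum (A ⧸ P) → ↥(Spec A) := fun m =>
    ⟨m.asIdeal.comap (Ideal.Quotient.mk P), Ideal.IsPrime.comap _⟩
  have hmax : ∀ m, (pr m).asIdeal.IsMaximal := fun m =>
    Ideal.comap_isMaximal_of_surjective _ Ideal.Quotient.mk_surjective
  let pt : MaximalSpectrum (A ⧸ P) → X := fun m => hU.fromSpec (pr m)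
  have hclosed : ∀ m, IsClosed ({pt m} : Set X) := fun m => by
    refine isClosed_singleton_of_isLocallyClosed_singleton ?_
    have h : IsClosed ({pr m} : Set ↥(Spec A)) :=
      (PrimeSpectrum.isClosed_singleton_iff_isMaximal _).2 (hmax m)
    have h' := h.isLocallyClosed.image hU.fromSpec.isOpenEmbedding.isInducing
      hU.fromSpec.isOpenEmbedding.isOpen_range.isLocallyClosed
    rwa [Set.image_singleton] at h'
  have hcard : ∀ m, ZetaPts.resCard X (pt m) = nrm m := by
    intro m
    have := hmax m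
    have e1 := ((asIso (hU.fromSpec.residueFieldMap (pr m))) ≪≫
      Scheme.Spec.residueFieldIso A (pr m)).commRingCatIsoToRingEquiv
    have e2 := RingEquiv.ofBijective (algebraMap (A ⧸ (pr m).asIdeal) (pr m).asIdeal.ResidueField)
      (Ideal.bijective_algebraMap_quotient_residueField (pr m).asIdeal)
    let q : A →+* (A ⧸ P) ⧸ m.asIdeal := (Ideal.Quotient.mk m.asIdeal).comp (Ideal.Quotient.mk P)
    have hq : Function.Surjective q := Ideal.Quotient.mk_surjective.comp Ideal.Quotient.mk_surjective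
    have hker : RingHom.ker q = (pr m).asIdeal := by rw [← RingHom.comap_ker, Ideal.mk_ker]
    exact ((Nat.card_congr e1.toEquiv).trans (Nat.card_congr e2.symm.toEquiv)).trans
      (Nat.card_congr ((Ideal.quotEquivOfEq hker.symm).trans (RingHom.quotientKerEquivOfSurjective hq)).toEquiv)
  let g : MaximalSpectrum (A ⧸ P) → {x : X | IsClosed ({x} : Set X)} := fun m => ⟨pt m, hclosed m⟩
  have hg : Function.Injective g := fun m n h => by
    have h1 : pr m = pr n := hU.fromSpec.isOpenEmbedding.injective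
      (congrArg (fun z : {x : X | IsClosed ({x} : Set X)} => z.1) h)
    exact MaximalSpectrum.ext (Ideal.comap_injective_of_surjective _ Ideal.Quotient.mk_surjective
      (congrArg PrimeSpectrum.asIdeal h1))
  refine top_le_iff.1 (htop ▸ le_trans (le_of_eq ?_) (ENNReal.tsum_comp_le_tsum_of_injective hg _))
  exact tsum_congr fun m => by rw [← hcard]

variable {X : Scheme.{u}} (f : X ⟶ Spec (CommRingCat.of (ULift.{u} ℤ)))

theorem finite_closedPoints_of_card [LocallyOfFiniteType f] [QuasiCompact f] (r : ℕ)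
    (hr : topologicalKrullDim X ≤ r) (n : ℕ) :
    Finite {x : X // IsClosed ({x} : Set X) ∧ ZetaPts.resCard X x = n} := by
  have h := ZetaPts.summable_closedPoints f r hr (r + 1) (by linarith)
  by_contra hinf
  have : Infinite {x : X // IsClosed ({x} : Set X) ∧ ZetaPts.resCard X x = n} := not_finite_iff_infinite.1 hinf
  obtain ⟨x⟩ : Nonempty {x : X // IsClosed ({x} : Set X) ∧ ZetaPts.resCard X x = n} := Infinite.nonempty _
  have hn : (n : ℝ) ≠ 0 := by
    have := ZetaPts.two_le_resCard f x.2.1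
    rw [x.2.2] at this
    exact Nat.cast_ne_zero.2 (by omega)
  let g : {x : X // IsClosed ({x} : Set X) ∧ ZetaPts.resCard X x = n} → {x : X | IsClosed ({x} : Set X)} :=
    fun x => ⟨x.1, x.2.1⟩
  have hc : Summable fun _ : {x : X // IsClosed ({x} : Set X) ∧ ZetaPts.resCard X x = n} =>
      (n : ℝ) ^ (-((r : ℝ) + 1)) := by
    refine (h.comp_injective (i := g) fun a b h' => Subtype.ext (congrArg (fun z : {x : X | IsClosed ({x} : Set X)} => z.1) h')).congr fun z => ?_
    show (ZetaPts.resCard X z.1 : ℝ) ^ _ = _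
    rw [z.2.2]
  exact (Real.rpow_pos_of_pos (lt_of_le_of_ne (Nat.cast_nonneg n) hn.symm) _).ne' ((summable_const_iff _).1 hc)

theorem finite_cycles [LocallyOfFiniteType f] [QuasiCompact f] (r : ℕ) (hr : topologicalKrullDim X ≤ r) (n : ℕ) :
    Finite {α : X →₀ ℕ // (∀ x ∈ α.support, IsClosed ({x} : Set X)) ∧
      α.prod (fun x m => ZetaPts.resCard X x ^ m) = n} := by
  classical
  rcases eq_or_ne n 0 with rfl | hn
  · have : IsEmpty {α : X →₀ ℕ // (∀ x ∈ α.support, IsClosed ({x} : Set X)) ∧
        α.prod (fun x m => ZetaPts.resCard X x ^ m) = 0} := ⟨fun α => by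
      refine Finset.prod_ne_zero_iff.2 (fun x hx => pow_ne_zero _ ?_) α.2.2
      have := ZetaPts.two_le_resCard f (α.2.1 x hx)
      omega⟩
    infer_instance
  let T : Set X := ⋃ d ∈ Finset.range (n + 1), {x : X | IsClosed ({x} : Set X) ∧ ZetaPts.resCard X x = d}
  have hT : T.Finite := (Finset.range (n + 1)).finite_toSet.biUnion fun d _ =>
    Set.finite_coe_iff.1 (finite_closedPoints_of_card f r hr d)
  refine Set.Finite.to_subtype (s := {α : X →₀ ℕ | _}) ((hT.toFinset.finsupp fun _ => Finset.range (n + 1)).finite_toSet.subset ?_)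
  rintro α ⟨hcl, hprod⟩
  have hdvd : ∀ x ∈ α.support, ZetaPts.resCard X x ^ α x ≤ n := fun x hx =>
    Nat.le_of_dvd (Nat.pos_of_ne_zero hn) (hprod ▸ Finset.dvd_prod_of_mem _ hx)
  refine Finset.mem_finsupp_iff.2 ⟨fun x hx => ?_, fun x _ => Finset.mem_range.2 ?_⟩
  · rw [Set.Finite.mem_toFinset]
    refine Set.mem_biUnion (x := ZetaPts.resCard X x) (Finset.mem_coe.2 (Finset.mem_range.2 ?_)) ⟨hcl x hx, rfl⟩
    have h1 := Nat.le_self_pow (Finsupp.mem_support_iff.1 hx) (ZetaPts.resCard X x)
    have h2 := hdvd x hx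
    omega
  · by_cases hx : x ∈ α.support
    · have h1 := Nat.lt_pow_self (n := α x) (ZetaPts.two_le_resCard f (hcl x hx))
      have h2 := hdvd x hx
      omega
    · rw [Finsupp.notMem_support_iff.1 hx]; omega

theorem card_le_cycleNormCount [LocallyOfFiniteType f] [QuasiCompact f] (r : ℕ) (hr : topologicalKrullDim X ≤ r)
    (n : ℕ) : Nat.card {x : X // IsClosed ({x} : Set X) ∧ ZetaPts.resCard X x = n} ≤ Zeta.cycleNormCount X n := by
  classical
  have : Finite {α : X →₀ ℕ // (∀ x ∈ α.support, IsClosed ({x} : Set X)) ∧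
      α.prod (fun x m => Nat.card (X.residueField x) ^ m) = n} := finite_cycles f r hr n
  have hs : ∀ x : X, ∀ y ∈ (Finsupp.single x (1 : ℕ)).support, y = x := fun x y hy =>
    Finset.mem_singleton.1 (Finsupp.support_single_subset hy)
  refine Nat.card_le_card_of_injective (fun x => (⟨Finsupp.single x.1 1,
    fun y hy => hs x.1 y hy ▸ x.2.1, (Finsupp.prod_single_index (h := fun x m => Nat.card (X.residueField x) ^ m) (pow_zero _)).trans ((pow_one _).trans x.2.2)⟩ :
      {α : X →₀ ℕ // (∀ x ∈ α.support, IsClosed ({x} : Set X)) ∧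
        α.prod (fun x m => Nat.card (X.residueField x) ^ m) = n})) fun x y h => ?_
  exact Subtype.ext (Finsupp.single_left_injective one_ne_zero (congrArg Subtype.val h))

theorem tsum_ne_top_of_summable [LocallyOfFiniteType f] [QuasiCompact f] (r : ℕ) (hr : topologicalKrullDim X ≤ r)
    (σ : ℝ) (h : LSeriesSummable (Zeta.arithCoeff X) σ) :
    ∑' x : {x : X | IsClosed ({x} : Set X)}, ENNReal.ofReal ((ZetaPts.resCard X x.1 : ℝ) ^ (-σ)) ≠ ⊤ := by
  classical
  let C : Set X := {x : X | IsClosed ({x} : Set X)}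
  let N : C → ℕ := fun x => ZetaPts.resCard X x.1
  have hfin : ∀ n, Finite {x : C // N x = n} := fun n =>
    have := finite_closedPoints_of_card f r hr n
    Finite.of_injective (fun x => (⟨x.1.1, x.1.2, x.2⟩ : {x : X // IsClosed ({x} : Set X) ∧ ZetaPts.resCard X x = n}))
      fun a b h => Subtype.ext (Subtype.ext (congrArg (fun z : {x : X // IsClosed ({x} : Set X) ∧ ZetaPts.resCard X x = n} => z.1) h))
  have hsum : Summable fun x : C => (N x : ℝ) ^ (-σ) := by
    refine (Equiv.sigmaFiberEquiv N).summable_iff.1 ?_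
    refine (summable_sigma_of_nonneg fun z => Real.rpow_nonneg (Nat.cast_nonneg _) _).2
      ⟨fun n => haveI := hfin n; Summable.of_finite, Summable.of_nonneg_of_le
        (fun n => tsum_nonneg fun z => Real.rpow_nonneg (Nat.cast_nonneg _) _) (fun n => ?_) h.norm⟩
    have := hfin n
    let _ := Fintype.ofFinite {x : C // N x = n}
    rw [tsum_fintype, Finset.sum_congr rfl (g := fun _ => (n : ℝ) ^ (-σ)) fun z _ => by
        show ((N z.1 : ℕ) : ℝ) ^ (-σ) = _
        rw [z.2],
      Finset.sum_const, Finset.card_univ, nsmul_eq_mul, ← Nat.card_eq_fintype_card]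
    rcases eq_or_ne n 0 with rfl | hn
    · have : IsEmpty {x : C // N x = 0} := ⟨fun x => by
        have := ZetaPts.two_le_resCard f x.1.2
        have := x.2
        simp only [N] at this
        omega⟩
      simp
    · rw [LSeries.norm_term_eq, if_neg hn, Complex.ofReal_re, Real.rpow_neg (Nat.cast_nonneg n), ← div_eq_mul_inv]
      refine div_le_div_of_nonneg_right ?_ (Real.rpow_nonneg (Nat.cast_nonneg n) _)
      rw [show Zeta.arithCoeff X n = (Zeta.cycleNormCount X n : ℂ) from rfl, Complex.norm_natCast]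
      refine Nat.cast_le.2 (le_trans (le_of_eq ?_) (card_le_cycleNormCount f r hr n))
      exact Nat.card_congr (Equiv.subtypeSubtypeEquivSubtypeInter (fun x : X => IsClosed ({x} : Set X))
        (fun x : X => ZetaPts.resCard X x = n))
  rw [← ENNReal.ofReal_tsum_of_nonneg (fun x => Real.rpow_nonneg (Nat.cast_nonneg _) _) hsum]
  exact ENNReal.ofReal_ne_top

/-- The abscissa of convergence of the zeta series is the dimension. -/
theorem abscissa_eq [LocallyOfFiniteType f] [QuasiCompact f] (r : ℕ) (hr : topologicalKrullDim X = r) :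
    LSeries.abscissaOfAbsConv (Zeta.arithCoeff X) = (r : ℝ) := by
  classical
  refine le_antisymm (ZetaPts.abscissa_le_and_ne_zero f r hr.le).1 (le_sInf ?_)
  rintro _ ⟨σ, hσ, rfl⟩
  refine EReal.coe_le_coe_iff.2 (le_of_not_gt fun hlt => ?_)
  rcases Nat.eq_zero_or_pos r with rfl | hr1
  · have hne : Nonempty X := by
      by_contra hemp
      rw [not_nonempty_iff] at hemp
      have hbot : topologicalKrullDim X = ⊥ := by
        have : IsEmpty (IrreducibleCloseds X) := ⟨fun Z => hemp.false Z.2.nonempty.some⟩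
        exact krullDim_eq_bot
      rw [hr] at hbot
      exact WithBot.coe_ne_bot hbot
    have : CompactSpace X := QuasiCompact.compactSpace_of_compactSpace f
    obtain ⟨x, -, hx⟩ := (isClosed_univ (X := X)).exists_closed_singleton Set.univ_nonempty
    let q := ZetaPts.resCard X x
    have hq : 2 ≤ q := ZetaPts.two_le_resCard f hx
    have h0 := hσ.tendsto_atTop_zero.norm
    have hsub : ∀ m : ℕ, 1 ≤ ‖LSeries.term (Zeta.arithCoeff X) σ (q ^ m)‖ := fun m => by
      rw [LSeries.norm_term_eq, if_neg (pow_ne_zero _ (by omega)), Complex.ofReal_re,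
        show Zeta.arithCoeff X (q ^ m) = (Zeta.cycleNormCount X (q ^ m) : ℂ) from rfl, Complex.norm_natCast]
      have hpos : (0 : ℝ) < ((q ^ m : ℕ) : ℝ) := by exact_mod_cast pow_pos (by omega) m
      rw [le_div_iff₀ (Real.rpow_pos_of_pos hpos _), one_mul]
      refine le_trans (Real.rpow_le_one_of_one_le_of_nonpos (by exact_mod_cast Nat.one_le_pow _ _ (by omega))
        (by simpa using hlt.le)) ?_
      have : Finite {α : X →₀ ℕ // (∀ y ∈ α.support, IsClosed ({y} : Set X)) ∧
          α.prod (fun y k => Nat.card (X.residueField y) ^ k) = q ^ m} := finite_cycles f 0 hr.le (q ^ m)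
      have : Nonempty {α : X →₀ ℕ // (∀ y ∈ α.support, IsClosed ({y} : Set X)) ∧
          α.prod (fun y k => Nat.card (X.residueField y) ^ k) = q ^ m} :=
        ⟨⟨Finsupp.single x m, fun y hy => by rw [Finset.mem_singleton.1 (Finsupp.support_single_subset hy)]; exact hx,
          Finsupp.prod_single_index (h := fun y k => Nat.card (X.residueField y) ^ k) (pow_zero _)⟩⟩
      exact_mod_cast (Nat.card_pos : 0 < Zeta.cycleNormCount X (q ^ m))
    have hlim := (h0.comp (tendsto_pow_atTop_atTop_of_one_lt (show 1 < q by omega)))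
    rw [norm_zero] at hlim
    exact absurd (ge_of_tendsto' hlim hsub) (not_le.2 one_pos)
  · exact tsum_ne_top_of_summable f r hr.le σ hσ (tsum_closedPoints_eq_top f r hr1 hr.ge σ hlt)

end Groth.Agent.AbscLB
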