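import Mathlib
import Groth.Agent.AbscLB.Scheme
import Groth.Agent.AbscLB.Induct
import Groth.Agent.GeomIrred.Ring
import Groth.Agent.GeomIrred.Criteria

/-!
# Degrees of closed points of a curve over a finite field
-/

set_option autoImplicit false
set_option maxHeartbeats 1600000

universe u

open CategoryTheory CategoryTheory.Limits AlgebraicGeometry TensorProduct
open scoped IntermediateField

namespace Groth.Agent.AbscLB

theorem irreducibleSpace_tensor_of_affineOpen {k : Type u} [Field k] {X : Scheme.{u}}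
    (f : X ⟶ Spec (CommRingCat.of k)) [GeometricallyIrreducible f] {A : Type u} [CommRing A] [Algebra k A]
    [Nontrivial A] (ι : Spec (CommRingCat.of A) ⟶ X) [IsOpenImmersion ι]
    (hι : ι ≫ f = Spec.map (CommRingCat.ofHom (algebraMap k A))) (L : Type u) [Field L] [Algebra k L] :
    IrreducibleSpace (PrimeSpectrum (L ⊗[k] A)) := by
  let g := Spec.map (CommRingCat.ofHom (algebraMap k L))
  let fA := Spec.map (CommRingCat.ofHom (algebraMap k A))
  have : IrreducibleSpace ↥(pullback f g) :=
    pullback_of_geometrically (GeometricallyIrreducible.geometrically_irreducibleSpace (f := f)) _ _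
  let q : pullback fA g ⟶ pullback f g := pullback.map _ _ _ _ ι (𝟙 _) (𝟙 _) (by simp [fA, hι]) (by simp [g])
  have : IsOpenImmersion q := inferInstance
  have : Nonempty (PrimeSpectrum (L ⊗[k] A)) := by
    have : Nontrivial (L ⊗[k] A) :=
      (Algebra.TensorProduct.includeRight_injective (A := L) (B := A) (algebraMap k L).injective).nontrivial
    infer_instance
  have : Nonempty ↥(pullback fA g) := (GeomIrred.bcsHomeo k A L).nonempty_congr.2 ‹_›
  have h : IrreducibleSpace ↥(pullback fA g) := q.isOpenEmbedding.irreducibleSpace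
  exact (GeomIrred.bcsHomeo k A L).irreducibleSpace_iff.1 h

theorem mem_range_of_geomIrreducible {k : Type u} [Field k] {X : Scheme.{u}}
    (f : X ⟶ Spec (CommRingCat.of k)) [GeometricallyIrreducible f] {A : Type u} [CommRing A] [IsDomain A]
    [Algebra k A] (ι : Spec (CommRingCat.of A) ⟶ X) [IsOpenImmersion ι]
    (hι : ι ≫ f = Spec.map (CommRingCat.ofHom (algebraMap k A))) {K : Type u} [Field K] [Algebra k K]
    [Algebra A K] [IsFractionRing A K] [IsScalarTower k A K] {α : K} (hs : IsSeparable k α) :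
    α ∈ Set.range (algebraMap k K) := by
  refine GeomIrred.mem_range_of_irreducible_tensor hs fun L _ _ _ _ => ?_
  have h := irreducibleSpace_tensor_of_affineOpen f ι hι L
  let e := (Algebra.TensorProduct.comm k A L).toRingEquiv
  have hA : IrreducibleSpace (PrimeSpectrum (A ⊗[k] L)) :=
    (PrimeSpectrum.homeomorphOfRingEquiv e).irreducibleSpace_iff.2 h
  have hP := PrimeSpectrum.irreducibleSpace_iff_isPrime_nilradical.1 hA
  rw [PrimeSpectrum.irreducibleSpace_iff_isPrime_nilradical]
  let j : A ⊗[k] L →ₐ[k] K ⊗[k] L :=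
    Algebra.TensorProduct.map (IsScalarTower.toAlgHom k A K) (AlgHom.id k L)
  have hj : Function.Injective j :=
    Module.Flat.rTensor_preserves_injective_linearMap (M := L) (IsScalarTower.toAlgHom k A K).toLinearMap
      (IsFractionRing.injective A K)
  let u : A → K ⊗[k] L := fun s => algebraMap A K s ⊗ₜ[k] 1
  have hu : ∀ s : A, s ≠ 0 → IsUnit (u s) := fun s hs0 =>
    ((IsFractionRing.to_map_ne_zero_of_mem_nonZeroDivisors (mem_nonZeroDivisors_of_ne_zero hs0) :
      algebraMap A K s ≠ 0).isUnit).map (Algebra.TensorProduct.includeLeft : K →ₐ[k] K ⊗[k] L)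
  have hclear : ∀ z : K ⊗[k] L, ∃ s : A, s ≠ 0 ∧ ∃ w, z * u s = j w := by
    intro z
    induction z with
    | zero => exact ⟨1, one_ne_zero, 0, by simp⟩
    | tmul a l =>
      obtain ⟨r, s, hs0, rfl⟩ := IsFractionRing.div_surjective A a
      refine ⟨s, nonZeroDivisors.ne_zero hs0, r ⊗ₜ l, ?_⟩
      simp [u, j, div_mul_cancel₀ _ (IsFractionRing.to_map_ne_zero_of_mem_nonZeroDivisors hs0 : algebraMap A K s ≠ 0)]
    | add a b ha hb =>
      obtain ⟨s, hs0, w, hw⟩ := ha
      obtain ⟨t, ht0, v, hv⟩ := hb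
      refine ⟨s * t, mul_ne_zero hs0 ht0, w * (t ⊗ₜ 1) + v * (s ⊗ₜ 1), ?_⟩
      rw [map_add, map_mul, map_mul, ← hw, ← hv]
      simp only [u, j, Algebra.TensorProduct.map_tmul, IsScalarTower.coe_toAlgHom', map_one, map_mul,
        AlgHom.coe_id, id_eq]
      rw [show (algebraMap A K s * algebraMap A K t) ⊗ₜ[k] (1 : L) =
        (algebraMap A K s ⊗ₜ[k] 1) * (algebraMap A K t ⊗ₜ[k] 1) by simp]
      ring
  constructor
  · intro htop
    have : (1 : K ⊗[k] L) ∈ nilradical (K ⊗[k] L) := htop ▸ Submodule.mem_top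
    obtain ⟨n, hn⟩ := mem_nilradical.1 this
    refine hP.ne_top (Ideal.eq_top_iff_one _ |>.2 (mem_nilradical.2 ⟨n, hj ?_⟩))
    rw [map_pow, map_one, map_zero, hn]
  · intro a b hab
    obtain ⟨s, hs0, w, hw⟩ := hclear a
    obtain ⟨t, ht0, v, hv⟩ := hclear b
    have hwv : w * v ∈ nilradical (A ⊗[k] L) := by
      obtain ⟨n, hn⟩ := mem_nilradical.1 hab
      refine mem_nilradical.2 ⟨n, hj ?_⟩
      rw [map_pow, map_mul, ← hw, ← hv, mul_mul_mul_comm, mul_pow, hn, zero_mul, map_zero]
    have key : ∀ (c : K ⊗[k] L) (r : A) (x : A ⊗[k] L), r ≠ 0 → c * u r = j x →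
        x ∈ nilradical (A ⊗[k] L) → c ∈ nilradical (K ⊗[k] L) := fun c r x hr hcx hx => by
      rw [← Ideal.mul_unit_mem_iff_mem _ (hu r hr), hcx]
      exact mem_nilradical.2 ((mem_nilradical.1 hx).map j)
    rcases hP.mem_or_mem hwv with h' | h'
    · exact Or.inl (key a s w hs0 hw h')
    · exact Or.inr (key b t v ht0 hv h')

/-- Closed points of degree dividing `e` exist for large `e`. -/
theorem exists_maximal_deg_dvd {k : Type u} [Field k] [Finite k] {A : Type u} [CommRing A] [IsDomain A]
    [Algebra k A] [Algebra.FiniteType k A] (hdim : ringKrullDim A = 1)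
    (hclosed : ∀ c : FractionRing A, IsSeparable k c → c ∈ Set.range (algebraMap k (FractionRing A))) :
    ∃ E₀ : ℕ, ∀ e, E₀ ≤ e → ∃ m : MaximalSpectrum A, Module.finrank k (A ⧸ m.asIdeal) ∣ e := by
  classical
  let _ := Fintype.ofFinite k
  obtain ⟨p, hp⟩ := CharP.exists k
  have : Fact p.Prime := ⟨(CharP.char_is_prime_or_zero k p).resolve_right (CharP.char_ne_zero_of_finite k p)⟩
  let K := FractionRing A
  have htr : Algebra.trdeg k K = (1 : ℕ) := by
    obtain ⟨n, hn⟩ : ∃ n : ℕ, Algebra.trdeg k A = n := Cardinal.lt_aleph0.1 trdeg_lt_aleph0_of_finiteType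
    have h := DimFormulaLib.ringKrullDim_eq_trdeg k n hn
    rw [hdim] at h
    have hn1 : n = 1 := by exact_mod_cast h.symm
    rw [← DimFormulaLib.trdeg_eq_of_isFractionRing (k := k) (D := A) (K := K), hn, hn1]
  have : Algebra.EssFiniteType k K := Algebra.EssFiniteType.comp k A K
  obtain ⟨s, hs, hsep⟩ := exists_isTranscendenceBasis_and_isSeparable_of_perfectField k K
  have hcard : s.card = 1 := by
    have h := hs.cardinalMk_eq_trdeg
    rw [htr, Cardinal.mk_fintype, Fintype.card_coe] at h
    exact_mod_cast h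
  obtain ⟨x, rfl⟩ := Finset.card_eq_one.1 hcard
  have hxT : Transcendental k x := hs.1.transcendental ⟨x, Finset.mem_singleton_self x⟩
  rw [Finset.coe_singleton] at hsep
  have : Algebra.IsAlgebraic k⟮x⟯ K := Algebra.IsSeparable.isAlgebraic k⟮x⟯ K
  have : Algebra.EssFiniteType k⟮x⟯ K := Algebra.EssFiniteType.of_comp k k⟮x⟯ K
  have : FiniteDimensional k⟮x⟯ K := Algebra.finite_of_essFiniteType_of_isAlgebraic
  have : Module.Finite ℤ k := Module.Finite.of_finite
  have hk : Algebra.FiniteType ℤ k := inferInstance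
  let _ : IsScalarTower ℤ k A := IsScalarTower.of_algebraMap_eq' (RingHom.ext_int _ _)
  have : Algebra.FiniteType ℤ A := Algebra.FiniteType.trans hk ‹_›
  obtain ⟨B, b, c, Q₀, -, hTB, hb, hc, hF⟩ :=
    exists_pointFamily (C₀ := A) x hxT hclosed (Finset.univ : Finset k)
  obtain ⟨nd, hnd⟩ := hF.num_den
  let q := Nat.card k
  have hq : 1 < q := Finite.one_lt_card
  refine ⟨Q₀ + 1, fun e he => ?_⟩
  have : NeZero e := ⟨by omega⟩
  let κ := ULift.{u} (FiniteField.Extension k p e)
  let ψ : B →+* κ :=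
    ((ULift.ringEquiv : κ ≃+* _).symm.toRingHom.comp (algebraMap k (FiniteField.Extension k p e))).comp
      B.val.toRingHom
  have hκ : Nat.card κ = q ^ e := (Nat.card_congr Equiv.ulift).trans (FiniteField.natCard_extension k p e)
  obtain ⟨S, hS, -⟩ := hnd κ ψ (fun h => hb (Subtype.val_injective ((algebraMap k (FiniteField.Extension k p e)).injective
      ((ULift.ringEquiv : κ ≃+* _).symm.injective (h.trans (map_zero ψ).symm)))))
    (hκ ▸ lt_of_lt_of_le (show Q₀ < e by omega) (Nat.lt_pow_self hq).le)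
  obtain ⟨φ, -⟩ : S.Nonempty := Finset.card_pos.1 (by
    have : (0 : ℝ) < S.card := lt_of_lt_of_le (mul_pos hc (by exact_mod_cast Nat.card_pos)) hS
    exact_mod_cast this)
  have := RingHom.ker_isPrime φ
  have : Finite (A ⧸ RingHom.ker φ) := Finite.of_injective _ (RingHom.kerLift_injective φ)
  have hmax : (RingHom.ker φ).IsMaximal := Ideal.Quotient.maximal_of_isField _ (Finite.isField_of_domain _)
  refine ⟨⟨RingHom.ker φ, hmax⟩, ?_⟩
  let _ := Ideal.Quotient.field (RingHom.ker φ)
  let _ := (RingHom.kerLift φ).toAlgebra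
  have h1 := Module.natCard_eq_pow_finrank (K := A ⧸ RingHom.ker φ) (V := κ)
  rw [Module.natCard_eq_pow_finrank (K := k) (V := A ⧸ RingHom.ker φ), hκ, ← pow_mul] at h1
  exact ⟨_, Nat.pow_right_injective hq h1⟩

theorem exists_coprime_residue_degrees {k : Type u} [Field k] [Finite k] {X : Scheme.{u}}
    (f : X ⟶ Spec (CommRingCat.of k)) [LocallyOfFiniteType f] [IsIntegral X] [GeometricallyIrreducible f]
    (hdim : topologicalKrullDim X = 1) (F : ∀ x : X, Algebra k (X.residueField x)) :
    ∃ x y : X, IsClosed ({x} : Set X) ∧ IsClosed ({y} : Set X) ∧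
      Nat.Coprime (letI := F x; Module.finrank k (X.residueField x))
        (letI := F y; Module.finrank k (X.residueField y)) := by
  classical
  obtain ⟨U, hU, hdimU⟩ := exists_affine_dim_ge (X := X) 1 (by rw [hdim]; rfl)
  let A := Γ(X, U)
  have : Nonempty U := by
    by_contra hemp
    rw [not_nonempty_iff] at hemp
    have : Subsingleton A := by
      by_contra hA
      have : Nontrivial A := not_subsingleton_iff_nontrivial.1 hA
      obtain ⟨z⟩ : Nonempty (PrimeSpectrum A) := inferInstance
      exact hemp.false (hU.isoSpec.inv z)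
    rw [ringKrullDim_eq_bot_of_subsingleton] at hdimU
    exact absurd hdimU (by simp)
  have hdomain : IsDomain A := inferInstance
  let φ := Spec.preimage (hU.fromSpec ≫ f)
  let _ : Algebra k A := φ.hom.toAlgebra
  have hι : hU.fromSpec ≫ f = Spec.map (CommRingCat.ofHom (algebraMap k A)) := (Spec.map_preimage _).symm
  have : Algebra.FiniteType k A := RingHom.finiteType_algebraMap.1
    ((HasRingHomProperty.Spec_iff (P := @LocallyOfFiniteType)).1 (hι ▸ (inferInstance : LocallyOfFiniteType (hU.fromSpec ≫ f))))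
  have hdA : ringKrullDim A = 1 := by
    refine le_antisymm ?_ hdimU
    rw [← PrimeSpectrum.topologicalKrullDim_eq_ringKrullDim, ← hdim]
    exact hU.fromSpec.isOpenEmbedding.isInducing.topologicalKrullDim_le
  obtain ⟨E₀, hE⟩ := exists_maximal_deg_dvd hdA
    fun c hc => mem_range_of_geomIrreducible f hU.fromSpec hι hc
  obtain ⟨e₁, he₁, hp₁⟩ := Nat.exists_infinite_primes E₀
  obtain ⟨e₂, he₂, hp₂⟩ := Nat.exists_infinite_primes (e₁ + 1)
  obtain ⟨m₁, hm₁⟩ := hE e₁ he₁
  obtain ⟨m₂, hm₂⟩ := hE e₂ (by omega)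
  have : IsJacobsonRing (CommRingCat.of k) := inferInstanceAs (IsJacobsonRing k)
  have : JacobsonSpace X := LocallyOfFiniteType.jacobsonSpace f
  let pr : MaximalSpectrum A → ↥(Spec A) := fun m => ⟨m.asIdeal, m.isMaximal.isPrime⟩
  let pt : MaximalSpectrum A → X := fun m => hU.fromSpec (pr m)
  have hclosed : ∀ m, IsClosed ({pt m} : Set X) := fun m => by
    refine isClosed_singleton_of_isLocallyClosed_singleton ?_
    have h : IsClosed ({pr m} : Set ↥(Spec A)) :=
      (PrimeSpectrum.isClosed_singleton_iff_isMaximal _).2 m.isMaximal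
    have h' := h.isLocallyClosed.image hU.fromSpec.isOpenEmbedding.isInducing
      hU.fromSpec.isOpenEmbedding.isOpen_range.isLocallyClosed
    rwa [Set.image_singleton] at h'
  have hdeg : ∀ m, (letI := F (pt m); Module.finrank k (X.residueField (pt m))) =
      Module.finrank k (A ⧸ m.asIdeal) := by
    intro m
    let _ := F (pt m)
    have := m.isMaximal
    have e1 := ((asIso (hU.fromSpec.residueFieldMap (pr m))) ≪≫
      Scheme.Spec.residueFieldIso A (pr m)).commRingCatIsoToRingEquiv
    have e2 := RingEquiv.ofBijective (algebraMap (A ⧸ m.asIdeal) (pr m).asIdeal.ResidueField)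
      (Ideal.bijective_algebraMap_quotient_residueField (pr m).asIdeal)
    let _ := Ideal.Quotient.field m.asIdeal
    have hfin : Module.Finite k (A ⧸ m.asIdeal) := finite_of_finite_type_of_isJacobsonRing k (A ⧸ m.asIdeal)
    have : Finite (A ⧸ m.asIdeal) := Module.finite_of_finite k
    have hc : Nat.card (X.residueField (pt m)) = Nat.card (A ⧸ m.asIdeal) :=
      (Nat.card_congr e1.toEquiv).trans (Nat.card_congr e2.symm.toEquiv)
    have : Finite (X.residueField (pt m)) := Finite.of_equiv _ (e2.trans e1.symm).toEquiv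
    rw [Module.natCard_eq_pow_finrank (K := k), Module.natCard_eq_pow_finrank (K := k) (V := A ⧸ m.asIdeal)] at hc
    exact Nat.pow_right_injective Finite.one_lt_card hc
  refine ⟨pt m₁, pt m₂, hclosed m₁, hclosed m₂, ?_⟩
  rw [hdeg, hdeg]
  exact Nat.Coprime.of_dvd hm₁ hm₂ ((Nat.coprime_primes hp₁ hp₂).2 (by omega))

end Groth.Agent.AbscLB
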